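import Mathlib.LinearAlgebra.Matrix.Transvection
import Mathlib.LinearAlgebra.Matrix.SchurComplement
import Mathlib.LinearAlgebra.Matrix.Permutation
import Mathlib.LinearAlgebra.Matrix.NonsingularInverse

/-!
# Rank one perturbations and monomial matrices
-/

set_option autoImplicit false
set_option linter.unusedSectionVars false

namespace CfsgLib.Classical.DecompMax

open Matrix

variable {ι : Type*} [Fintype ι] [DecidableEq ι] {F : Type*} [Field F]

/-- The rank one perturbation `1 + u ⊗ φ`. -/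
def tv (u φ : ι → F) : Matrix ι ι F := 1 + vecMulVec u φ

theorem tv_apply (u φ : ι → F) (i j : ι) : tv u φ i j = (1 : Matrix ι ι F) i j + u i * φ j := rfl

theorem tv_mul (u φ u' φ' : ι → F) :
    tv u φ * tv u' φ' = 1 + vecMulVec u φ + vecMulVec u' φ' + (φ ⬝ᵥ u') • vecMulVec u φ' := by
  simp only [tv, add_mul, mul_add, one_mul, mul_one, vecMulVec_mul_vecMulVec, vecMulVec_smul]
  abel

theorem tv_mul_same_right (u u' φ : ι → F) : tv u φ * tv u' φ = tv (u + u' + (φ ⬝ᵥ u') • u) φ := by
  rw [tv_mul, tv, add_vecMulVec, add_vecMulVec, smul_vecMulVec]; abel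

theorem tv_mul_same_left (u φ φ' : ι → F) (h : φ ⬝ᵥ u = 0) : tv u φ * tv u φ' = tv u (φ + φ') := by
  rw [tv_mul, h, zero_smul, add_zero, tv, vecMulVec_add]; abel

theorem tv_zero_left (φ : ι → F) : tv (0 : ι → F) φ = 1 := by
  ext i j; simp [tv_apply]

theorem tv_mul_neg (u φ : ι → F) (h : φ ⬝ᵥ u = 0) : tv u φ * tv (-u) φ = 1 := by
  rw [tv_mul_same_right, dotProduct_neg, h]
  simp [tv_zero_left]

theorem tv_conj {A B : Matrix ι ι F} (hAB : A * B = 1) (u φ : ι → F) :
    A * tv u φ * B = tv (A *ᵥ u) (φ ᵥ* B) := by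
  rw [tv, mul_add, mul_one, add_mul, hAB, mul_vecMulVec, vecMulVec_mul, tv]

theorem det_tv (u φ : ι → F) : (tv u φ).det = 1 + φ ⬝ᵥ u := by
  rw [tv, vecMulVec_eq Unit, det_one_add_replicateCol_mul_replicateRow]

theorem tv_transpose (u φ : ι → F) : (tv u φ)ᵀ = tv φ u := by
  rw [tv, transpose_add, transpose_one, transpose_vecMulVec, tv]

theorem tv_smul (c : F) (u φ : ι → F) : tv (c • u) φ = tv u (c • φ) := by
  ext i j; simp only [tv_apply, Pi.smul_apply, smul_eq_mul]; ring

theorem transvection_eq_tv (i j : ι) (c : F) : transvection i j c = tv (Pi.single i c) (Pi.single j 1) := by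
  ext a b
  simp only [transvection, tv_apply, Matrix.add_apply, Matrix.single_apply, Pi.single_apply]
  by_cases ha : i = a <;> by_cases hb : j = b <;> simp [ha, hb, Ne.symm]

/-- The monomial matrix sending `e_q` to `d q • e_{σ q}`. -/
def mon (σ : Equiv.Perm ι) (d : ι → F) : Matrix ι ι F := Matrix.of fun p q => if p = σ q then d q else 0

theorem mon_apply (σ : Equiv.Perm ι) (d : ι → F) (p q : ι) : mon σ d p q = if p = σ q then d q else 0 := rfl

theorem mon_mul (σ τ : Equiv.Perm ι) (d e : ι → F) :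
    mon σ d * mon τ e = mon (σ * τ) (fun q => d (τ q) * e q) := by
  ext p q
  simp only [mul_apply, mon_apply, Equiv.Perm.mul_apply]
  rw [Finset.sum_eq_single (τ q) (fun b _ hb => by simp [hb]) (by simp)]
  by_cases h : p = σ (τ q) <;> simp [h]

theorem mon_one : mon (1 : Equiv.Perm ι) (1 : ι → F) = 1 := by
  ext p q
  by_cases h : p = q <;> simp [mon_apply, Matrix.one_apply, h]

theorem mon_diag (d : ι → F) : mon (1 : Equiv.Perm ι) d = diagonal d := by
  ext p q
  simp only [mon_apply, diagonal_apply, Equiv.Perm.one_apply]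
  by_cases h : p = q <;> simp [h]

theorem det_mon (σ : Equiv.Perm ι) (d : ι → F) : (mon σ d).det = (σ.sign : F) * ∏ q, d q := by
  have e : mon σ d = (σ⁻¹ : Equiv.Perm ι).permMatrix F * diagonal d := by
    ext p q
    rw [mul_diagonal]
    simp only [mon_apply, Equiv.Perm.permMatrix, PEquiv.toMatrix_apply, Equiv.toPEquiv_apply, Option.mem_def,
      Option.some.injEq, Equiv.Perm.inv_def]
    by_cases h : p = σ q
    · simp [h]
    · rw [if_neg h, if_neg (fun h' => h (by rw [← h', Equiv.apply_symm_apply])), zero_mul]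
  rw [e, det_mul, det_diagonal, det_permutation, Equiv.Perm.sign_inv]

theorem mon_mul_inv (σ : Equiv.Perm ι) {d : ι → F} (hd : ∀ q, d q ≠ 0) :
    mon σ d * mon σ.symm (fun p => (d (σ.symm p))⁻¹) = 1 := by
  rw [mon_mul, ← mon_one]
  congr 1
  · ext x; simp
  · funext q; simp [mul_inv_cancel₀ (hd _)]

theorem mon_inv_mul (σ : Equiv.Perm ι) {d : ι → F} (hd : ∀ q, d q ≠ 0) :
    mon σ.symm (fun p => (d (σ.symm p))⁻¹) * mon σ d = 1 := by
  rw [mon_mul, ← mon_one]
  congr 1
  · ext x; simp
  · funext q; simp [inv_mul_cancel₀ (hd _)]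

/-- The image of a vector under a monomial matrix. -/
def mvec (σ : Equiv.Perm ι) (d u : ι → F) : ι → F := fun p => d (σ.symm p) * u (σ.symm p)

/-- The image of a functional under a monomial matrix. -/
def mcov (σ : Equiv.Perm ι) (d φ : ι → F) : ι → F := fun p => φ (σ.symm p) / d (σ.symm p)

theorem mon_mulVec (σ : Equiv.Perm ι) (d u : ι → F) : mon σ d *ᵥ u = mvec σ d u := by
  funext p
  simp only [mulVec, dotProduct, mon_apply, mvec]
  rw [Finset.sum_eq_single (σ.symm p) (fun b _ hb => by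
    rw [if_neg (fun h => hb (by simp [h])), zero_mul]) (by simp)]
  simp

theorem vecMul_mon_inv (σ : Equiv.Perm ι) (d φ : ι → F) :
    φ ᵥ* mon σ.symm (fun p => (d (σ.symm p))⁻¹) = mcov σ d φ := by
  funext p
  simp only [vecMul, dotProduct, mon_apply, mcov]
  rw [Finset.sum_eq_single (σ.symm p) (fun b _ hb => by rw [if_neg hb, mul_zero]) (by simp)]
  simp [div_eq_mul_inv]

theorem mon_conj_tv (σ : Equiv.Perm ι) {d : ι → F} (hd : ∀ q, d q ≠ 0) (u φ : ι → F) :
    mon σ d * tv u φ * mon σ.symm (fun p => (d (σ.symm p))⁻¹) = tv (mvec σ d u) (mcov σ d φ) := by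
  rw [tv_conj (mon_mul_inv σ hd), mon_mulVec, vecMul_mon_inv]

theorem mcov_dot (σ : Equiv.Perm ι) {d : ι → F} (hd : ∀ q, d q ≠ 0) (u φ : ι → F) :
    mcov σ d φ ⬝ᵥ mvec σ d u = φ ⬝ᵥ u := by
  simp only [dotProduct, mcov, mvec]
  rw [← Equiv.sum_comp σ]
  refine Finset.sum_congr rfl fun x _ => ?_
  simp only [Equiv.symm_apply_apply]
  field_simp [hd x]

/-- Scale the coordinate `s` by `μ` and compensate at `l`. -/
def sc (s l : ι) (μ : F) : ι → F := fun i => if i = s then μ else if i = l then μ⁻¹ else 1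

theorem sc_ne_zero {s l : ι} {μ : F} (hμ : μ ≠ 0) (q : ι) : sc s l μ q ≠ 0 := by
  unfold sc; split_ifs <;> simp [hμ]

theorem prod_sc {s l : ι} (hsl : s ≠ l) {μ : F} (hμ : μ ≠ 0) : ∏ q, sc s l μ q = 1 := by
  rw [Fintype.prod_eq_mul s l hsl (fun x hx => by simp [sc, hx.1, hx.2])]
  simp [sc, hsl.symm, hμ]

/-- A set of matrices closed under products and inverses. -/
structure Closed (S : Set (Matrix ι ι F)) : Prop where
  mul : ∀ {A B}, A ∈ S → B ∈ S → A * B ∈ S
  inv : ∀ {A}, A ∈ S → ∃ B ∈ S, A * B = 1 ∧ B * A = 1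

theorem Closed.inv_mem {S : Set (Matrix ι ι F)} (h : Closed S) {A B : Matrix ι ι F} (hA : A ∈ S) (hAB : A * B = 1) :
    B ∈ S := by
  obtain ⟨C, hC, -, hCA⟩ := h.inv hA
  have : C = B := by rw [← mul_one C, ← hAB, ← mul_assoc, hCA, one_mul]
  exact this ▸ hC

theorem Closed.conj {S : Set (Matrix ι ι F)} (h : Closed S) {A B X : Matrix ι ι F} (hA : A ∈ S) (hAB : A * B = 1)
    (hX : X ∈ S) : A * X * B ∈ S :=
  h.mul (h.mul hA hX) (h.inv_mem hA hAB)

theorem Closed.transpose {S : Set (Matrix ι ι F)} (h : Closed S) : Closed {A | Aᵀ ∈ S} where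
  mul {A B} hA hB := by
    show (A * B)ᵀ ∈ S
    rw [transpose_mul]; exact h.mul hB hA
  inv {A} hA := by
    obtain ⟨B, hB, h1, h2⟩ := h.inv hA
    refine ⟨Bᵀ, by simpa using hB, ?_, ?_⟩
    · rw [← transpose_transpose A, ← transpose_mul, h2, transpose_one]
    · rw [← transpose_transpose A, ← transpose_mul, h1, transpose_one]

theorem mon_transpose (σ : Equiv.Perm ι) (d : ι → F) : (mon σ d)ᵀ = mon σ.symm (fun p => d (σ.symm p)) := by
  ext p q
  simp only [transpose_apply, mon_apply]
  by_cases h : q = σ p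
  · subst h; simp
  · rw [if_neg h, if_neg fun h' => h (by simp [h'])]

/-- Every column has at most one non-zero entry. -/
def IsMon (A : Matrix ι ι F) : Prop := ∀ p p' q, A p q ≠ 0 → A p' q ≠ 0 → p = p'

theorem exists_ne_zero_col {A B : Matrix ι ι F} (hBA : B * A = 1) (q : ι) : ∃ p, A p q ≠ 0 := by
  by_contra h
  push Not at h
  have := congrFun (congrFun hBA q) q
  simp [mul_apply, h] at this

theorem exists_ne_zero_row {A B : Matrix ι ι F} (hAB : A * B = 1) (p : ι) : ∃ q, A p q ≠ 0 := by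
  by_contra h
  push Not at h
  have := congrFun (congrFun hAB p) p
  simp [mul_apply, h] at this

theorem IsMon.exists_eq {A B : Matrix ι ι F} (hA : IsMon A) (hAB : A * B = 1) (hBA : B * A = 1) :
    ∃ (σ : Equiv.Perm ι) (d : ι → F), (∀ q, d q ≠ 0) ∧ A = mon σ d := by
  choose f hf using fun q => exists_ne_zero_col hBA q
  have hsur : Function.Surjective f := fun p => by
    obtain ⟨q, hq⟩ := exists_ne_zero_row hAB p
    exact ⟨q, hA _ _ q (hf q) hq⟩
  have hbij : Function.Bijective f := ⟨Finite.injective_iff_surjective.2 hsur, hsur⟩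
  refine ⟨Equiv.ofBijective f hbij, fun q => A (f q) q, hf, ?_⟩
  ext p q
  simp only [mon_apply, Equiv.ofBijective_apply]
  split_ifs with h
  · rw [h]
  · by_contra h'
    exact h (hA _ _ q h' (hf q))

theorem isMon_mon (σ : Equiv.Perm ι) (d : ι → F) : IsMon (mon σ d) := by
  intro p p' q h h'
  simp only [mon_apply, ne_eq, ite_eq_right_iff, Classical.not_imp] at h h'
  exact h.1.trans h'.1.symm

/-- A closed set with all elementary transvections and diagonal matrices of determinant one is all of `SL`. -/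
theorem mem_of_det_one {S : Set (Matrix ι ι F)} (h : Closed S)
    (hd : ∀ d : ι → F, ∏ q, d q = 1 → diagonal d ∈ S)
    (ht : ∀ i j, i ≠ j → ∀ c : F, transvection i j c ∈ S) {A : Matrix ι ι F} (hA : A.det = 1) : A ∈ S :=
  diagonal_transvection_induction (fun B => B ∈ S) A (fun D hD => hd D (by rw [← det_diagonal, hD, hA]))
    (fun t => ht t.i t.j t.hij t.c) fun _ _ => h.mul

/-- An element of a field with at least five elements avoiding three given values and zero. -/
theorem exists_avoid [Fintype F] (h5 : 5 ≤ Fintype.card F) (a b c : F) : ∃ x : F, x ≠ 0 ∧ x ≠ a ∧ x ≠ b ∧ x ≠ c := by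
  classical
  by_contra hall
  push Not at hall
  have hsub : (Finset.univ : Finset F) ⊆ {0, a, b, c} := by
    intro x _
    simp only [Finset.mem_insert, Finset.mem_singleton]
    by_cases h0 : x = 0
    · exact Or.inl h0
    by_cases ha : x = a
    · exact Or.inr (Or.inl ha)
    by_cases hb : x = b
    · exact Or.inr (Or.inr (Or.inl hb))
    exact Or.inr (Or.inr (Or.inr (hall x h0 ha hb)))
  have := (Finset.card_le_card hsub).trans Finset.card_le_four
  rw [Finset.card_univ] at this
  omega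

end CfsgLib.Classical.DecompMax
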