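import Cfsg.Agent.Lib.Classical.DecompMax.Greedy

/-!
# Overgroups of block monomial groups inside `SL`
-/

set_option autoImplicit false
set_option linter.unusedSectionVars false
set_option linter.unusedSimpArgs false

namespace CfsgLib.Classical.DecompMax

open Matrix

variable {κ α : Type*} [Fintype κ] [DecidableEq κ] [Fintype α] [DecidableEq α] {F : Type*} [Field F]

/-- Block monomial. -/
def Blk (A : Matrix (κ × α) (κ × α) F) : Prop :=
  ∀ p q p' q', A p q ≠ 0 → A p' q' ≠ 0 → q.1 = q'.1 → p.1 = p'.1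

/-- Block diagonal. -/
def BDiag (A : Matrix (κ × α) (κ × α) F) : Prop := ∀ p q, A p q ≠ 0 → p.1 = q.1

theorem BDiag.blk {A : Matrix (κ × α) (κ × α) F} (h : BDiag A) : Blk A :=
  fun _ _ _ _ hp hp' e => (h _ _ hp).trans (e.trans (h _ _ hp').symm)

theorem BDiag.mul {A B : Matrix (κ × α) (κ × α) F} (h : BDiag A) (h' : BDiag B) : BDiag (A * B) := fun p q hpq => by
  obtain ⟨r, -, hr⟩ := Finset.exists_ne_zero_of_sum_ne_zero (show ∑ r, A p r * B r q ≠ 0 from hpq)
  exact (h _ _ (left_ne_zero_of_mul hr)).trans (h' _ _ (right_ne_zero_of_mul hr))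

/-- The vector is supported in one block. -/
def InBlock (i : κ) (u : κ × α → F) : Prop := ∀ p, u p ≠ 0 → p.1 = i

theorem bdiag_tv {i : κ} {u φ : κ × α → F} (hu : InBlock i u) (hφ : InBlock i φ) : BDiag (tv u φ) := fun p q hpq => by
  by_cases h : p = q
  · rw [h]
  rw [tv_apply, Matrix.one_apply_ne h, zero_add] at hpq
  exact (hu p (left_ne_zero_of_mul hpq)).trans (hφ q (right_ne_zero_of_mul hpq)).symm

theorem inBlock_single (p : κ × α) (c : F) : InBlock p.1 (Pi.single p c) := fun x hx => by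
  by_contra h; exact hx (Pi.single_eq_of_ne (fun e => h (congrArg Prod.fst e)) _)

/-- A group of matrices of determinant one containing the block monomial ones. -/
structure BlkOver (S : Set (Matrix (κ × α) (κ × α) F)) : Prop where
  closed : Closed S
  det_eq : ∀ {A}, A ∈ S → A.det = 1
  blk_mem : ∀ {A}, A.det = 1 → Blk A → A ∈ S

/-- An elementary transvection between two blocks. -/
def HasCross (S : Set (Matrix (κ × α) (κ × α) F)) : Prop :=
  ∃ (p q : κ × α) (c : F), p.1 ≠ q.1 ∧ c ≠ 0 ∧ transvection p q c ∈ S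

variable {S : Set (Matrix (κ × α) (κ × α) F)} (hS : BlkOver S)

include hS in
theorem BlkOver.tv_mem {i : κ} {u φ : κ × α → F} (hu : InBlock i u) (hφ : InBlock i φ) (h : φ ⬝ᵥ u = 0) :
    tv u φ ∈ S :=
  hS.blk_mem (by rw [det_tv, h, add_zero]) (bdiag_tv hu hφ).blk

include hS in
theorem tv_diff_left {w ψ : κ × α → F} (hw : tv w ψ ∈ S) (h0 : ψ ⬝ᵥ w = 0) {h h' : Matrix (κ × α) (κ × α) F}
    (hh : h ∈ S) (hhh : h * h' = 1) (hψ : ψ ᵥ* h' = ψ) : tv (h *ᵥ w - w) ψ ∈ S := by
  have h1 := hS.closed.conj hh hhh hw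
  rw [tv_conj hhh, hψ] at h1
  have h2 := hS.closed.mul h1 (hS.closed.inv_mem hw (tv_mul_neg _ _ h0))
  rwa [tv_mul_same_right, dotProduct_neg, h0, neg_zero, zero_smul, add_zero, ← sub_eq_add_neg] at h2

include hS in
theorem tv_diff_right {w ψ : κ × α → F} (hw : tv w ψ ∈ S) (h0 : ψ ⬝ᵥ w = 0) {h h' : Matrix (κ × α) (κ × α) F}
    (hh : h ∈ S) (hhh : h * h' = 1) (hwh : h *ᵥ w = w) : tv w (ψ ᵥ* h' - ψ) ∈ S := by
  have h1 := hS.closed.conj hh hhh hw
  rw [tv_conj hhh, hwh] at h1
  have h2 := hS.closed.mul h1 (hS.closed.inv_mem hw (tv_mul_neg _ _ h0))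
  rw [← neg_one_smul F w, tv_smul, neg_one_smul] at h2
  have hd : (ψ ᵥ* h') ⬝ᵥ w = 0 := by
    rw [← dotProduct_mulVec]
    conv_lhs => rw [← hwh, mulVec_mulVec, mul_eq_one_comm.1 hhh, one_mulVec]
    exact h0
  rwa [tv_mul_same_left _ _ _ hd, ← sub_eq_add_neg] at h2

theorem dot_single_single {p q : κ × α} (h : p ≠ q) (a b : F) : Pi.single p a ⬝ᵥ Pi.single q b = 0 := by
  rw [dotProduct_single, Pi.single_eq_of_ne h.symm, zero_mul]

include hS in
/-- A transvection with centre in one block and axis reaching another one. -/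
theorem hasCross_of_inBlock [Nontrivial α] {j : κ} {w ψ : κ × α → F} (hw : InBlock j w) (hw0 : w ≠ 0) (h0 : ψ ⬝ᵥ w = 0)
    {p : κ × α} (hp : p.1 ≠ j) (hψp : ψ p ≠ 0) (hmem : tv w ψ ∈ S) : HasCross S := by
  obtain ⟨b', hb'⟩ := exists_ne p.2
  set p' : κ × α := (p.1, b')
  have hpp : p' ≠ p := fun e => hb' (congrArg Prod.snd e)
  have wz : ∀ x : κ × α, x.1 ≠ j → w x = 0 := fun x hx => by_contra fun h => hx (hw x h)
  have hdot : Pi.single p' (1 : F) ⬝ᵥ Pi.single p (1 : F) = 0 := dot_single_single hpp _ _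
  have hh : tv (-Pi.single p (1 : F)) (Pi.single p' 1) ∈ S :=
    hS.tv_mem (i := p.1) (fun x hx => inBlock_single p (1 : F) x (by simpa using hx)) (inBlock_single p' 1)
      (by rw [dotProduct_neg, hdot, neg_zero])
  have hi : tv (-Pi.single p (1 : F)) (Pi.single p' 1) * tv (Pi.single p 1) (Pi.single p' 1) = 1 := by
    have := tv_mul_neg (-Pi.single p (1 : F)) (Pi.single p' 1) (by rw [dotProduct_neg, hdot, neg_zero])
    rwa [neg_neg] at this
  have h1 := tv_diff_right hS hmem h0 hh hi (by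
    rw [tv_mulVec, single_dotProduct, wz p' hp, mul_zero, zero_smul, add_zero])
  have e1 : ψ ᵥ* tv (Pi.single p (1 : F)) (Pi.single p' 1) - ψ = Pi.single p' (ψ p) := by
    rw [vecMul_tv, add_sub_cancel_left, dotProduct_single, mul_one, ← Pi.single_smul', smul_eq_mul, mul_one]
  rw [e1] at h1
  obtain ⟨q, hq⟩ := Function.ne_iff.1 hw0
  simp only [Pi.zero_apply] at hq
  obtain ⟨a', ha'⟩ := exists_ne q.2
  set q' : κ × α := (q.1, a')
  have hqq : q' ≠ q := fun e => ha' (congrArg Prod.snd e)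
  have hqj : q.1 = j := hw q hq
  have hpq : p' ≠ q' := fun e => hp ((congrArg Prod.fst e).trans hqj)
  have hdot2 : Pi.single q (1 : F) ⬝ᵥ Pi.single q' (1 : F) = 0 := dot_single_single hqq.symm _ _
  have h2 := tv_diff_left hS h1 (by rw [single_dotProduct, wz p' hp, mul_zero])
    (hS.tv_mem (i := q.1) (inBlock_single q' (1 : F)) (inBlock_single q 1) hdot2) (tv_mul_neg _ _ hdot2) (by
      rw [vecMul_tv, dotProduct_neg, dot_single_single hpq, neg_zero, zero_smul, add_zero])
  rw [tv_mulVec, add_sub_cancel_left, single_dotProduct, one_mul, ← Pi.single_smul', smul_eq_mul, mul_one] at h2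
  refine ⟨q', p', w q * ψ p, fun e => hp ((e.symm).trans hqj), mul_ne_zero hq hψp, ?_⟩
  convert h2 using 1
  rw [transvection_eq_tv]
  ext x y
  simp only [tv_apply, Pi.single_apply]
  split_ifs <;> ring

include hS in
/-- From two blocks to a single one. -/
theorem scale_step {j k : κ} (hjk : j ≠ k) {w ψ v : κ × α → F} (hmem : tv w ψ ∈ S) (h0 : ψ ⬝ᵥ w = 0)
    (wj : κ × α → F) (hwj : InBlock j wj) (hψwj : ψ ⬝ᵥ wj = 0) {a : κ × α} (ha : a.1 = j) (hwa : w a ≠ 0) (hwja : wj a = w a)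
    (hv : InBlock k v) (hψv : ψ ⬝ᵥ v = 0) {b : κ × α} (hb : b.1 = k) (hvb : v b ≠ 0) {l : F} (hl : l ≠ 0) :
    tv ((l - 1) • wj + ((l⁻¹ - 1) * (w b / v b)) • v) ψ ∈ S := by
  set f : κ × α → F := Pi.single a (w a)⁻¹ with hf
  set f' : κ × α → F := Pi.single b (v b)⁻¹ with hf'
  have fb : InBlock j f := ha ▸ inBlock_single a _
  have fb' : InBlock k f' := hb ▸ inBlock_single b _
  have fw : f ⬝ᵥ wj = 1 := by rw [hf, single_dotProduct, hwja, inv_mul_cancel₀ hwa]
  have fv : f ⬝ᵥ v = 0 := by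
    rw [hf, single_dotProduct, show v a = 0 from by_contra fun h => hjk (ha.symm.trans (hv a h)), mul_zero]
  have f'v : f' ⬝ᵥ v = 1 := by rw [hf', single_dotProduct, inv_mul_cancel₀ hvb]
  have sm : ∀ (c : F) {i : κ} {u : κ × α → F}, InBlock i u → InBlock i (c • u) := fun c i u hu x hx =>
    hu x (right_ne_zero_of_mul (by simpa using hx))
  set A₁ := tv ((l - 1) • wj) f
  set A₂ := tv ((l⁻¹ - 1) • v) f'
  have inv1 : A₁ * tv ((l⁻¹ - 1) • wj) f = 1 := by
    rw [tv_mul_same_right, dotProduct_smul, fw, ← tv_zero_left f]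
    congr 1
    funext x; simp only [Pi.add_apply, Pi.smul_apply, smul_eq_mul, Pi.zero_apply]; field_simp; ring
  have inv2 : A₂ * tv ((l - 1) • v) f' = 1 := by
    rw [tv_mul_same_right, dotProduct_smul, f'v, ← tv_zero_left f']
    congr 1
    funext x; simp only [Pi.add_apply, Pi.smul_apply, smul_eq_mul, Pi.zero_apply]; field_simp; ring
  have hh : A₁ * A₂ ∈ S := hS.blk_mem (by
    rw [det_mul, det_tv, det_tv, dotProduct_smul, dotProduct_smul, fw, f'v]; simp [hl])
    ((bdiag_tv (sm _ hwj) fb).mul (bdiag_tv (sm _ hv) fb')).blk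
  have hhh : A₁ * A₂ * (tv ((l - 1) • v) f' * tv ((l⁻¹ - 1) • wj) f) = 1 := by
    rw [mul_assoc, ← mul_assoc A₂, inv2, one_mul, inv1]
  have h1 := tv_diff_left hS hmem h0 hh hhh (by
    rw [← vecMul_vecMul, show ψ ᵥ* tv ((l - 1) • v) f' = ψ by
      rw [vecMul_tv, dotProduct_smul, hψv, smul_zero, zero_smul, add_zero], vecMul_tv, dotProduct_smul,
      hψwj, smul_zero, zero_smul, add_zero])
  convert h1 using 2
  rw [← mulVec_mulVec, tv_mulVec, tv_mulVec, dotProduct_add, dotProduct_smul, dotProduct_smul, fv, hf', hf,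
    single_dotProduct, single_dotProduct, inv_mul_cancel₀ hwa]
  funext x
  simp only [Pi.add_apply, Pi.smul_apply, Pi.sub_apply, smul_eq_mul]
  field_simp
  ring

include hS in
theorem hasCross_of_mixed [Nontrivial α] (hcard : Fintype.card α ≤ 2 → (∃ l : F, l ≠ 0 ∧ l ≠ 1) ∧ 3 ≤ Fintype.card κ)
    {w ψ : κ × α → F} (hmem : tv w ψ ∈ S) (h0 : ψ ⬝ᵥ w = 0) {a : κ × α} (hwa : w a ≠ 0) {p : κ × α} (hψp : ψ p ≠ 0)
    (hp : p.1 ≠ a.1) : HasCross S := by
  by_cases hgood : ∃ w' φ' : κ × α → F, InBlock a.1 w' ∧ InBlock a.1 φ' ∧ w' ≠ 0 ∧ ψ ⬝ᵥ w' = 0 ∧ φ' ⬝ᵥ w' = 0 ∧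
      φ' ⬝ᵥ w ≠ 0
  · obtain ⟨w', φ', hw', hφ', hw0, hψw, hφw, hφ0⟩ := hgood
    have h1 := tv_diff_left hS hmem h0 (hS.tv_mem hw' hφ' hφw) (tv_mul_neg _ _ hφw) (by
      rw [vecMul_tv, dotProduct_neg, hψw, neg_zero, zero_smul, add_zero])
    rw [tv_mulVec, add_sub_cancel_left] at h1
    exact hasCross_of_inBlock hS (j := a.1) (fun x hx => hw' x (right_ne_zero_of_mul (by simpa using hx)))
      (smul_ne_zero hφ0 hw0) (by rw [dotProduct_smul, hψw, smul_zero]) hp hψp h1
  push Not at hgood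
  obtain ⟨b, hb⟩ := exists_ne a.2
  set a' : κ × α := (a.1, b)
  have ha' : a' ≠ a := fun e => hb (congrArg Prod.snd e)
  have hψa' : ψ a' ≠ 0 := fun h => hwa (by
    have := hgood (Pi.single a' 1) (Pi.single a 1) (inBlock_single a' (1 : F)) (inBlock_single a 1) (by simp)
      (by rw [dotProduct_single, h, zero_mul]) (dot_single_single ha'.symm _ _)
    rwa [single_dotProduct, one_mul] at this)
  by_cases hα : Fintype.card α ≤ 2
  swap
  · obtain ⟨b', hb', hb'2⟩ := Finset.exists_mem_notMem_of_card_lt_card (s := ({a.2, b} : Finset α)) (t := Finset.univ)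
      (Finset.card_le_two.trans_lt (by rw [Finset.card_univ]; omega))
    simp only [Finset.mem_insert, Finset.mem_singleton, not_or] at hb'2
    set a'' : κ × α := (a.1, b')
    have h12 : a' ≠ a'' := fun e => hb'2.2 (congrArg Prod.snd e).symm
    have ha'' : a'' ≠ a := fun e => hb'2.1 (congrArg Prod.snd e)
    exfalso
    refine hwa ?_
    have hw'b : InBlock a.1 (Pi.single a' (ψ a'') - Pi.single a'' (ψ a') : κ × α → F) := fun x hx => by
      by_contra hxa
      refine hx ?_
      rw [Pi.sub_apply, Pi.single_eq_of_ne (show x ≠ a' from fun e => hxa (e ▸ rfl)),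
        Pi.single_eq_of_ne (show x ≠ a'' from fun e => hxa (e ▸ rfl)), sub_zero]
    have := hgood _ (Pi.single a 1) hw'b (inBlock_single a 1) (fun e => hψa' (by
      have := congrFun e a''
      simpa [h12.symm] using this)) (by rw [dotProduct_sub, dotProduct_single, dotProduct_single]; ring)
      (by rw [dotProduct_sub, dot_single_single ha'.symm, dot_single_single ha''.symm, sub_zero])
    rwa [single_dotProduct, one_mul] at this
  obtain ⟨⟨l, hl0, hl1⟩, hκ⟩ := hcard hα
  have huniv : ∀ x : κ × α, x.1 = a.1 → x = a ∨ x = a' := fun x hx => by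
    by_contra hall
    push Not at hall
    have h3 : ({a.2, b, x.2} : Finset α).card = 3 := Finset.card_eq_three.2
      ⟨a.2, b, x.2, hb.symm, fun e => hall.1 (Prod.ext hx e.symm), fun e => hall.2 (Prod.ext hx e.symm), rfl⟩
    have := Finset.card_le_univ ({a.2, b, x.2} : Finset α)
    omega
  -- the part of `w` in the block
  set wj : κ × α → F := Pi.single a (w a) + Pi.single a' (w a')
  have hwj : InBlock a.1 wj := fun x hx => by
    by_contra hxa
    refine hx ?_
    simp only [wj, Pi.add_apply, Pi.single_eq_of_ne (show x ≠ a from fun e => hxa (e ▸ rfl)),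
      Pi.single_eq_of_ne (show x ≠ a' from fun e => hxa (e ▸ rfl)), add_zero]
  have hwja : wj a = w a := by simp [wj, ha'.symm]
  have hψwj : ψ ⬝ᵥ wj = 0 := by
    have hw'b : InBlock a.1 (Pi.single a (ψ a') - Pi.single a' (ψ a) : κ × α → F) := fun x hx => by
      by_contra hxa
      refine hx ?_
      rw [Pi.sub_apply, Pi.single_eq_of_ne (show x ≠ a from fun e => hxa (e ▸ rfl)),
        Pi.single_eq_of_ne (show x ≠ a' from fun e => hxa (e ▸ rfl)), sub_zero]
    have hφb : InBlock a.1 (Pi.single a (ψ a) + Pi.single a' (ψ a') : κ × α → F) := fun x hx => by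
      by_contra hxa
      refine hx ?_
      rw [Pi.add_apply, Pi.single_eq_of_ne (show x ≠ a from fun e => hxa (e ▸ rfl)),
        Pi.single_eq_of_ne (show x ≠ a' from fun e => hxa (e ▸ rfl)), add_zero]
    have := hgood _ _ hw'b hφb (fun e => hψa' (by
      have := congrFun e a
      simpa [ha'.symm] using this)) (by rw [dotProduct_sub, dotProduct_single, dotProduct_single]; ring)
      (by rw [dotProduct_sub, dotProduct_single, dotProduct_single]; simp [ha', ha'.symm]; ring)
    rw [add_dotProduct, single_dotProduct, single_dotProduct] at this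
    simp only [wj, dotProduct_add, dotProduct_single]
    linear_combination this
  have hker : ∀ k : κ, ∃ (v : κ × α → F) (c : κ × α), InBlock k v ∧ ψ ⬝ᵥ v = 0 ∧ c.1 = k ∧ v c ≠ 0 := fun k => by
    set c₀ : κ × α := (k, a.2)
    set c₁ : κ × α := (k, b)
    have hc : c₁ ≠ c₀ := fun e => hb (congrArg Prod.snd e)
    by_cases h : ψ c₀ = 0
    · exact ⟨Pi.single c₀ 1, c₀, inBlock_single c₀ 1, by rw [dotProduct_single, h, zero_mul], rfl, by simp⟩
    · refine ⟨Pi.single c₀ (ψ c₁) - Pi.single c₁ (ψ c₀), c₁, fun x hx => ?_, ?_, rfl, by simpa [hc] using h⟩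
      · by_contra hxa
        refine hx ?_
        rw [Pi.sub_apply, Pi.single_eq_of_ne (show x ≠ c₀ from fun e => hxa (e ▸ rfl)),
          Pi.single_eq_of_ne (show x ≠ c₁ from fun e => hxa (e ▸ rfl)), sub_zero]
      · rw [dotProduct_sub, dotProduct_single, dotProduct_single]; ring
  haveI : Nontrivial κ := Fintype.one_lt_card_iff_nontrivial.1 (by omega)
  obtain ⟨k, hk⟩ := exists_ne a.1
  obtain ⟨k', -, hk'⟩ := Finset.exists_mem_notMem_of_card_lt_card (s := ({a.1, k} : Finset κ)) (t := Finset.univ)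
    (Finset.card_le_two.trans_lt (by rw [Finset.card_univ]; omega))
  simp only [Finset.mem_insert, Finset.mem_singleton, not_or] at hk'
  obtain ⟨v, c, hv, hψv, hck, hvc⟩ := hker k
  have h1 := scale_step hS (Ne.symm hk) hmem h0 wj hwj hψwj rfl hwa hwja hv hψv hck hvc hl0
  set w2 := (l - 1) • wj + ((l⁻¹ - 1) * (w c / v c)) • v with hw2
  have hva : v a = 0 := by_contra fun h => hk (hv a h).symm
  have hw2a : w2 a = (l - 1) * w a := by simp [hw2, hva, hwja]
  have hw2ne : w2 a ≠ 0 := by rw [hw2a]; exact mul_ne_zero (sub_ne_zero.2 hl1) hwa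
  obtain ⟨v', c', hv', hψv', hck', hvc'⟩ := hker k'
  have h02 : ψ ⬝ᵥ w2 = 0 := by rw [hw2, dotProduct_add, dotProduct_smul, dotProduct_smul, hψwj, hψv]; simp
  have h2 := scale_step hS (Ne.symm hk'.1) h1 h02 ((l - 1) • wj)
    (fun x hx => hwj x (right_ne_zero_of_mul (by simpa using hx))) (by rw [dotProduct_smul, hψwj, smul_zero]) rfl hw2ne
    (by simp [hw2a, hwja]) hv' hψv' hck' hvc' hl0
  have hw2c : w2 c' = 0 := by
    have e1 : wj c' = 0 := by_contra fun h => hk'.1 (hck'.symm.trans (hwj c' h))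
    have e2 : v c' = 0 := by_contra fun h => hk'.2 (hck'.symm.trans (hv c' h))
    simp [hw2, e1, e2]
  rw [hw2c, zero_div, mul_zero, zero_smul, add_zero] at h2
  refine hasCross_of_inBlock hS (j := a.1) (fun x hx => hwj x ?_) ?_ ?_ hp hψp h2
  · exact fun h => hx (by simp [h])
  · intro e
    have := congrFun e a
    simp [hwja, sub_ne_zero.2 hl1, hwa] at this
  · rw [dotProduct_smul, dotProduct_smul, hψwj, smul_zero, smul_zero]

include hS in
theorem hasCross_of_not_blk [Nontrivial α] (hcard : Fintype.card α ≤ 2 → (∃ l : F, l ≠ 0 ∧ l ≠ 1) ∧ 3 ≤ Fintype.card κ)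
    {g : Matrix (κ × α) (κ × α) F} (hg : g ∈ S) (hnb : ¬ Blk g) : HasCross S := by
  obtain ⟨B, -, hgB, hBg⟩ := hS.closed.inv hg
  obtain ⟨i, u, φ, hu, hφ, h0, hφne, p₁, p₂, h1, h2, h12⟩ : ∃ (i : κ) (u φ : κ × α → F), InBlock i u ∧ InBlock i φ ∧
      φ ⬝ᵥ u = 0 ∧ φ ≠ 0 ∧ ∃ p₁ p₂ : κ × α, (g *ᵥ u) p₁ ≠ 0 ∧ (g *ᵥ u) p₂ ≠ 0 ∧ p₁.1 ≠ p₂.1 := by
    by_cases hcol : ∃ q p₁ p₂, g p₁ q ≠ 0 ∧ g p₂ q ≠ 0 ∧ p₁.1 ≠ p₂.1
    · obtain ⟨q, p₁, p₂, h1, h2, h12⟩ := hcol
      obtain ⟨b, hb⟩ := exists_ne q.2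
      have hqq : (q.1, b) ≠ q := fun e => hb (congrArg Prod.snd e)
      exact ⟨q.1, Pi.single q 1, Pi.single (q.1, b) 1, inBlock_single q 1, inBlock_single (q.1, b) 1,
        dot_single_single hqq _ _, by simp, p₁, p₂, by simpa using h1, by simpa using h2, h12⟩
    · push Not at hcol
      unfold Blk at hnb
      push Not at hnb
      obtain ⟨p, q, p', q', hp, hp', hqq, hpp⟩ := hnb
      have hne : q ≠ q' := fun e => hpp (hcol q p p' hp (e ▸ hp'))
      have z : g p q' = 0 := by_contra fun h => hpp (hcol q' p p' h hp')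
      have z' : g p' q = 0 := by_contra fun h => hpp (hcol q p p' hp h)
      refine ⟨q.1, Pi.single q 1 + Pi.single q' 1, Pi.single q 1 - Pi.single q' 1, fun x hx => ?_, fun x hx => ?_,
        by simp [hne, hne.symm], fun e => one_ne_zero (α := F) (by simpa [hne] using congrFun e q), p, p', ?_, ?_, hpp⟩
      · by_contra hx'
        refine hx ?_
        rw [Pi.add_apply, Pi.single_eq_of_ne (show x ≠ q from fun e => hx' (e ▸ rfl)),
          Pi.single_eq_of_ne (show x ≠ q' from fun e => hx' (e ▸ hqq.symm)), add_zero]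
      · by_contra hx'
        refine hx ?_
        rw [Pi.sub_apply, Pi.single_eq_of_ne (show x ≠ q from fun e => hx' (e ▸ rfl)),
          Pi.single_eq_of_ne (show x ≠ q' from fun e => hx' (e ▸ hqq.symm)), sub_zero]
      · simpa [mulVec_add, z] using hp
      · simpa [mulVec_add, z'] using hp'
  have hmem := hS.closed.conj hg hgB (hS.tv_mem hu hφ h0)
  rw [tv_conj hgB] at hmem
  have hψ : φ ᵥ* B ≠ 0 := fun e => hφne (by
    have := congrArg (fun x => x ᵥ* g) e
    simpa [vecMul_vecMul, hBg] using this)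
  have hd : (φ ᵥ* B) ⬝ᵥ (g *ᵥ u) = 0 := by rw [← dotProduct_mulVec, mulVec_mulVec, hBg, one_mulVec, h0]
  obtain ⟨p, hp⟩ := Function.ne_iff.1 hψ
  simp only [Pi.zero_apply] at hp
  by_cases hh : p.1 = p₁.1
  · exact hasCross_of_mixed hS hcard hmem hd h2 hp (hh ▸ h12)
  · exact hasCross_of_mixed hS hcard hmem hd h1 hp hh

/-- Blocks of size one. -/
theorem hasCross_of_lines [Fintype F] [Subsingleton α] (h5 : 5 ≤ Fintype.card F) (hn : 6 ≤ Fintype.card (κ × α))
    {S : Set (Matrix (κ × α) (κ × α) F)} (hS : BlkOver S) {g : Matrix (κ × α) (κ × α) F} (hg : g ∈ S) (hnb : ¬ Blk g) :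
    HasCross S := by
  have fst_inj : ∀ x y : κ × α, x.1 = y.1 → x = y := fun x y h => Prod.ext h (Subsingleton.elim _ _)
  have hM : MonOver S :=
    ⟨hS.closed, hS.det_eq, fun σ d hd => hS.blk_mem hd fun p q p' q' hp hp' e => by
      obtain rfl := fst_inj _ _ e
      exact congrArg Prod.fst (isMon_mon σ d p p' q hp hp')⟩
  obtain ⟨s, t, c, hst, hc, hm⟩ := hasTv_of_not_isMon hM h5 hn hg fun h => hnb fun p q p' q' hp hp' e => by
    obtain rfl := fst_inj _ _ e
    exact congrArg Prod.fst (h p p' q hp hp')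
  exact ⟨s, t, c, fun e => hst (fst_inj _ _ e), hc, hm⟩

include hS in
theorem all_of_hasCross (h3 : 3 ≤ Fintype.card (κ × α)) (hc : HasCross S) {A : Matrix (κ × α) (κ × α) F}
    (hA : A.det = 1) : A ∈ S := by
  obtain ⟨p, q, c, hpq, hc0, hm⟩ := hc
  refine mem_of_det_one hS.closed (fun d hd => hS.blk_mem (by rw [det_diagonal, hd]) (BDiag.blk fun i j h => by
    by_contra hne; exact h (diagonal_apply_ne _ fun e => hne (by rw [e])))) (fun x y hxy e => ?_) hA
  by_cases he : e = 0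
  · subst he
    rw [transvection_zero]
    exact hS.blk_mem det_one (BDiag.blk fun i j h => by
      by_contra hne; exact h (Matrix.one_apply_ne fun e => hne (by rw [e])))
  by_cases hb : x.1 = y.1
  · rw [transvection_eq_tv]
    exact hS.tv_mem (i := x.1) (inBlock_single x e) (hb ▸ inBlock_single y 1) (dot_single_single hxy.symm _ _)
  set π : Equiv.Perm κ := Equiv.swap (Equiv.swap p.1 x.1 q.1) y.1 * Equiv.swap p.1 x.1
  have hπp : π p.1 = x.1 := by
    simp only [π, Equiv.Perm.mul_apply, Equiv.swap_apply_left]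
    refine Equiv.swap_apply_of_ne_of_ne (fun h => hpq ?_) hb
    apply (Equiv.swap p.1 x.1).injective
    rw [Equiv.swap_apply_left]; exact h
  have hπq : π q.1 = y.1 := by simp only [π, Equiv.Perm.mul_apply, Equiv.swap_apply_left]
  set f : κ → Equiv.Perm α := fun i =>
    if i = p.1 then Equiv.swap p.2 x.2 else if i = q.1 then Equiv.swap q.2 y.2 else 1
  let σ : Equiv.Perm (κ × α) :=
    { toFun := fun z => (π z.1, f z.1 z.2)
      invFun := fun z => (π.symm z.1, (f (π.symm z.1)).symm z.2)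
      left_inv := fun z => by simp
      right_inv := fun z => by simp }
  have hσ : ∀ z, σ z = (π z.1, f z.1 z.2) := fun z => rfl
  have hσp : σ p = x := by rw [hσ, hπp]; simp [f]
  have hσq : σ q = y := by rw [hσ, hπq]; simp [f, Ne.symm hpq]
  obtain ⟨l, -, hl⟩ := Finset.exists_mem_notMem_of_card_lt_card (s := ({p, q} : Finset (κ × α))) (t := Finset.univ)
    (Finset.card_le_two.trans_lt (by rw [Finset.card_univ]; omega))
  simp only [Finset.mem_insert, Finset.mem_singleton, not_or] at hl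
  have hs0 : (σ.sign : F) ≠ 0 := by rcases Int.units_eq_one_or σ.sign with h | h <;> simp [h]
  set d : κ × α → F := fun z => if z = p then e / c else if z = l then (e / c)⁻¹ * (σ.sign : F)⁻¹ else 1
  have hd0 : ∀ z, d z ≠ 0 := fun z => by simp only [d]; split_ifs <;> simp [he, hc0, hs0]
  have hdet : (mon σ d).det = 1 := by
    rw [det_mon, Fintype.prod_eq_mul p l (Ne.symm hl.1) (fun z hz => by simp [d, hz.1, hz.2])]
    simp [d, hl.1]
    field_simp
  have hblk : Blk (mon σ d) := fun a b a' b' ha ha' e' => by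
    simp only [mon_apply, ne_eq, ite_eq_right_iff, Classical.not_imp] at ha ha'
    rw [ha.1, ha'.1, hσ, hσ, e']
  have hconj := hS.closed.conj (hS.blk_mem hdet hblk) (mon_mul_inv σ hd0) hm
  rw [transvection_eq_tv, mon_conj_tv σ hd0] at hconj
  rw [transvection_eq_tv]
  convert hconj using 1
  ext a b
  simp only [tv_apply, mvec, mcov, Pi.single_apply]
  congr 1
  by_cases ha : a = x <;> by_cases hb' : b = y
  · subst ha hb'
    rw [← hσp, ← hσq, Equiv.symm_apply_apply, Equiv.symm_apply_apply]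
    have hqd : d q = 1 := by
      simp [d, Ne.symm hl.2, show q ≠ p from fun h => hpq (by rw [h])]
    rw [hqd]
    simp [d]
    field_simp
  all_goals
    simp [ha, hb', show ∀ z, σ.symm z = p ↔ z = x from fun z => by rw [Equiv.symm_apply_eq, hσp],
      show ∀ z, σ.symm z = q ↔ z = y from fun z => by rw [Equiv.symm_apply_eq, hσq]]

end CfsgLib.Classical.DecompMax
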