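import Cfsg.Agent.Lib.Classical.DecompMax.Mono

/-!
# Columns of non-monomial elements of an overgroup of the monomial group
-/

set_option autoImplicit false
set_option linter.unusedSectionVars false
set_option linter.unusedSimpArgs false

namespace CfsgLib.Classical.DecompMax

open Matrix

variable {ι : Type*} [Fintype ι] [DecidableEq ι] {F : Type*} [Field F] [Fintype F]
variable {S : Set (Matrix ι ι F)} (hS : MonOver S) (h5 : 5 ≤ Fintype.card F) (hn : 6 ≤ Fintype.card ι)

include hS h5 hn in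
theorem hasTv_of_column {r s : ι} {y : Matrix ι ι F} (hy : y ∈ S) (hmon : ¬ IsMon y)
    (hcol : ∀ i, i ≠ r → y i s = 0) : HasTv S := by
  by_cases hrs : r = s
  · subst hrs; exact hasTv_of_axisCol hS h5 hn hy hcol hmon
  let d : ι → F := Function.update 1 r (-1)
  have hd : ∀ q, d q ≠ 0 := fun q => by by_cases hq : q = r <;> simp [d, hq]
  have hm : mon (Equiv.swap r s) d ∈ S := hS.mon_mem _ _ (by
    rw [det_mon, Equiv.Perm.sign_swap hrs, Finset.prod_update_of_mem (Finset.mem_univ r)]; simp)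
  refine hasTv_of_axisCol hS h5 hn (r := r) (hS.closed.mul hy hm) (fun i hi => ?_) (fun h => hmon ?_)
  · rw [mul_mon_apply, Equiv.swap_apply_left, hcol i hi, zero_mul]
  · have := h.mul_mon (Equiv.swap r s).symm (fun p => (d ((Equiv.swap r s).symm p))⁻¹)
    rwa [mul_assoc, mon_mul_inv _ hd, mul_one] at this

include hS h5 hn in
theorem hasTv_of_fix {g B h : Matrix ι ι F} {r : ι} (hg : g ∈ S) (hgB : g * B = 1) (hh : h ∈ S)
    (hfix : (h *ᵥ fun i => B i r) = fun i => B i r) (hmon : ¬ IsMon (g * h * B)) : HasTv S := by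
  refine hasTv_of_axisCol hS h5 hn (r := r) (hS.closed.mul (hS.closed.mul hg hh) (hS.closed.inv_mem hg hgB))
    (fun i hi => ?_) hmon
  have e : (g * h * B) i r = (g *ᵥ (h *ᵥ fun k => B k r)) i := by
    rw [mulVec_mulVec]; simp [Matrix.mul_apply, mulVec, dotProduct]
  rw [e, hfix]
  have : (g *ᵥ fun k => B k r) i = (g * B) i r := by simp [Matrix.mul_apply, mulVec, dotProduct]
  rw [this, hgB, Matrix.one_apply_ne hi]

theorem no_three {M : ι → ι → F} {P X Q Y : ι → F} (hM : ∀ i j, M i j = P i * X j + Q i * Y j) {i₁ i₂ i₃ c₁ c₂ c₃ : ι}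
    (h11 : M i₁ c₁ ≠ 0) (h22 : M i₂ c₂ ≠ 0) (h33 : M i₃ c₃ ≠ 0) (h12 : M i₁ c₂ = 0) (h13 : M i₁ c₃ = 0)
    (h23 : M i₂ c₃ = 0) : False := by
  have D : M i₁ c₁ * M i₂ c₂ * M i₃ c₃ - M i₁ c₁ * M i₂ c₃ * M i₃ c₂ - M i₁ c₂ * M i₂ c₁ * M i₃ c₃ +
      M i₁ c₂ * M i₂ c₃ * M i₃ c₁ + M i₁ c₃ * M i₂ c₁ * M i₃ c₂ - M i₁ c₃ * M i₂ c₂ * M i₃ c₁ = 0 := by
    simp only [hM]; ring
  rw [h12, h13, h23] at D
  simp only [mul_zero, zero_mul, sub_zero, add_zero] at D
  exact mul_ne_zero (mul_ne_zero h11 h22) h33 D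

theorem perm_small {σ : Equiv.Perm ι} {d : ι → F} (hd : ∀ q, d q ≠ 0) {P X Q Y : ι → F}
    (hM : ∀ i j, mon σ d i j - (1 : Matrix ι ι F) i j = P i * X j + Q i * Y j) :
    σ * σ = 1 ∨ σ * σ * σ = 1 := by
  by_contra hall
  push Not at hall
  set M := fun i j => mon σ d i j - (1 : Matrix ι ι F) i j
  have diag : ∀ i, σ i ≠ i → M i i ≠ 0 := fun i hi => by
    simp [M, mon_apply, Ne.symm hi]
  have prev : ∀ i, σ i ≠ i → M i (σ.symm i) ≠ 0 := fun i hi => by
    have : σ.symm i ≠ i := fun e => hi (by rw [Equiv.symm_apply_eq] at e; exact e.symm)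
    simp [M, mon_apply, Matrix.one_apply_ne this.symm, hd]
  have off : ∀ i j, j ≠ i → j ≠ σ.symm i → M i j = 0 := fun i j h h' => by
    have : i ≠ σ j := fun e => h' (by rw [e, Equiv.symm_apply_apply])
    simp [M, mon_apply, this, Matrix.one_apply_ne (Ne.symm h)]
  have tri : ∀ i₁ i₂ i₃, σ i₁ ≠ i₁ → σ i₂ ≠ i₂ → σ i₃ ≠ i₃ → i₂ ≠ i₁ → σ i₂ ≠ i₁ → i₃ ≠ i₁ → σ i₃ ≠ i₁ → i₃ ≠ i₂ →
      σ i₃ ≠ i₂ → False := fun i₁ i₂ i₃ m1 m2 m3 a b c e f g =>
    no_three (M := M) hM (diag i₁ m1) (diag i₂ m2) (diag i₃ m3)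
      (off _ _ a fun h => b (by rw [h, Equiv.apply_symm_apply]))
      (off _ _ c fun h => e (by rw [h, Equiv.apply_symm_apply]))
      (off _ _ f fun h => g (by rw [h, Equiv.apply_symm_apply]))
  obtain ⟨i, hi⟩ : ∃ i, σ (σ i) ≠ i := by
    by_contra h; push Not at h; exact hall.1 (Equiv.ext h)
  have m1 : σ i ≠ i := fun h => hi (by rw [h, h])
  have m2 : σ (σ i) ≠ σ i := fun h => m1 (σ.injective h)
  have m3 : σ (σ (σ i)) ≠ σ (σ i) := fun h => m2 (σ.injective h)
  by_cases h3 : σ (σ (σ i)) = i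
  swap
  · exact tri i (σ i) (σ (σ i)) m1 m2 m3 m1 hi hi h3 m2 (fun h => hi (σ.injective h))
  obtain ⟨j, hj⟩ : ∃ j, σ (σ (σ j)) ≠ j := by
    by_contra h; push Not at h; exact hall.2 (Equiv.ext h)
  have mj : σ j ≠ j := fun h => hj (by rw [h, h, h])
  have horb : j ≠ i ∧ j ≠ σ i ∧ j ≠ σ (σ i) := by
    refine ⟨fun e => hj (by rw [e, h3]), fun e => hj ?_, fun e => hj ?_⟩
    · rw [e, h3]
    · rw [e, h3]
  exact tri j i (σ i) mj m1 m2 horb.1.symm horb.2.1.symm horb.2.1.symm horb.2.2.symm m1 hi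

theorem diag_small {e : ι → F} {P X Q Y : ι → F}
    (hM : ∀ i j, diagonal e i j - (1 : Matrix ι ι F) i j = P i * X j + Q i * Y j) [DecidableEq F] :
    (Finset.univ.filter fun i => e i ≠ 1).card ≤ 2 := by
  by_contra h
  push Not at h
  obtain ⟨a, b, c, ha, hb, hc, hab, hac, hbc⟩ := Finset.two_lt_card_iff.1 h
  simp only [Finset.mem_filter, Finset.mem_univ, true_and] at ha hb hc
  set M := fun i j => diagonal e i j - (1 : Matrix ι ι F) i j
  exact no_three (M := M) hM (i₁ := a) (i₂ := b) (i₃ := c) (c₁ := a) (c₂ := b) (c₃ := c)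
    (by simpa [M, sub_eq_zero] using ha) (by simpa [M, sub_eq_zero] using hb) (by simpa [M, sub_eq_zero] using hc)
    (by simp [M, hab]) (by simp [M, hac]) (by simp [M, hbc])

theorem conj_sc_sub_one {g B : Matrix ι ι F} (hgB : g * B = 1) {a b : ι} (hab : a ≠ b) (l : F) (i j : ι) :
    (g * mon (1 : Equiv.Perm ι) (sc a b l) * B) i j - (1 : Matrix ι ι F) i j =
      (l - 1) * g i a * B a j + (l⁻¹ - 1) * g i b * B b j := by
  rw [← hgB, mon_diag, mul_apply, mul_apply, ← Finset.sum_sub_distrib]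
  rw [Fintype.sum_eq_add a b hab (fun x hx => by simp [mul_diagonal, sc, hx.1, hx.2])]
  simp [mul_diagonal, sc, hab.symm]
  ring

include h5 in
theorem exists_order : ∃ l : F, l ≠ 0 ∧ l ≠ 1 ∧ l * l ≠ 1 ∧ l * l * l ≠ 1 := by
  classical
  obtain ⟨u, hu⟩ := IsCyclic.exists_generator (α := Fˣ)
  have ho : orderOf u = Fintype.card F - 1 := by
    rw [orderOf_eq_card_of_forall_mem_zpowers hu, Nat.card_eq_fintype_card, Fintype.card_units]
  have hne : ∀ k, 0 < k → k < 4 → (u : F) ^ k ≠ 1 := fun k hk hk4 h => by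
    have h' : u ^ k = 1 := Units.ext (by rw [Units.val_pow_eq_pow_val, h, Units.val_one])
    have := Nat.le_of_dvd hk (orderOf_dvd_of_pow_eq_one h')
    omega
  refine ⟨u, u.ne_zero, ?_, ?_, ?_⟩
  · simpa using hne 1 (by norm_num) (by norm_num)
  · simpa [pow_succ] using hne 2 (by norm_num) (by norm_num)
  · simpa [pow_succ] using hne 3 (by norm_num) (by norm_num)

include hS h5 hn in
/-- Two zeros in a column of the inverse confine two columns to two coordinates. -/
theorem hasTv_or_pair {g B : Matrix ι ι F} (hg : g ∈ S) (hgB : g * B = 1) (hBg : B * g = 1) {r a b : ι} (hab : a ≠ b)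
    (ha : B a r = 0) (hb : B b r = 0) :
    HasTv S ∨ ∃ I : Finset ι, I.card ≤ 2 ∧ ∀ i, i ∉ I → g i a = 0 ∧ g i b = 0 := by
  classical
  obtain ⟨l, hl0, hl1, hl2, hl3⟩ := exists_order (F := F) h5
  set h := mon (1 : Equiv.Perm ι) (sc a b l)
  have hh : h ∈ S := hS.diag_mem (prod_sc hab hl0)
  by_cases hmon : IsMon (g * h * B)
  swap
  · refine Or.inl (hasTv_of_fix hS h5 hn hg hgB hh (r := r) ?_ hmon)
    rw [mon_mulVec]
    funext p
    simp only [mvec, one_symm_apply, sc]
    by_cases h1 : p = a <;> by_cases h2 : p = b <;> simp [h1, h2, ha, hb]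
  obtain ⟨z', -, hz1, hz2⟩ := hS.closed.inv (hS.closed.mul (hS.closed.mul hg hh) (hS.closed.inv_mem hg hgB))
  obtain ⟨σ, d, hd, hzd⟩ := hmon.exists_eq hz1 hz2
  have hsmall := perm_small hd (P := fun i => (l - 1) * g i a) (X := B a) (Q := fun i => (l⁻¹ - 1) * g i b) (Y := B b)
    (fun i j => by rw [← hzd, conj_sc_sub_one hgB hab])
  have hmul : ∀ x y : F, (g * mon (1 : Equiv.Perm ι) (sc a b x) * B) * (g * mon (1 : Equiv.Perm ι) (sc a b y) * B) =
      g * mon (1 : Equiv.Perm ι) (sc a b (x * y)) * B := fun x y => by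
    have e : mon (1 : Equiv.Perm ι) (sc a b x) * mon (1 : Equiv.Perm ι) (sc a b y) =
        mon (1 : Equiv.Perm ι) (sc a b (x * y)) := by
      rw [mon_mul, mul_one]
      congr 1
      funext q
      simp only [Equiv.Perm.one_apply, sc]
      by_cases h1 : q = a <;> by_cases h2 : q = b <;> simp [h1, h2, hab, hab.symm, mul_comm]
    simp only [mul_assoc]
    rw [← mul_assoc B g, hBg, one_mul, ← mul_assoc (mon 1 (sc a b x)), e]
  obtain ⟨μ, hμ0, hμ1, e, he⟩ : ∃ μ : F, μ ≠ 0 ∧ μ ≠ 1 ∧ ∃ e : ι → F,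
      g * mon (1 : Equiv.Perm ι) (sc a b μ) * B = diagonal e := by
    rcases hsmall with h' | h'
    · exact ⟨l * l, mul_ne_zero hl0 hl0, hl2, _, by rw [← hmul, hzd, mon_mul, h', mon_diag]⟩
    · exact ⟨l * l * l, mul_ne_zero (mul_ne_zero hl0 hl0) hl0, hl3, _, by
        rw [← hmul, ← hmul, hzd, mon_mul, mon_mul, h', mon_diag]⟩
  refine Or.inr ⟨Finset.univ.filter fun i => e i ≠ 1, diag_small (P := fun i => (μ - 1) * g i a) (X := B a)
    (Q := fun i => (μ⁻¹ - 1) * g i b) (Y := B b) (fun i j => by rw [← he, conj_sc_sub_one hgB hab]), fun i hi => ?_⟩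
  simp only [Finset.mem_filter, Finset.mem_univ, true_and, not_not] at hi
  have key : ∀ c, diagonal e i i * g i c = g i c * sc a b μ c := fun c => by
    have e1 : diagonal e * g = g * diagonal (sc a b μ) := by
      rw [← he, mon_diag, mul_assoc, hBg, mul_one]
    have := congrFun (congrFun e1 i) c
    rw [diagonal_mul, mul_diagonal] at this
    rwa [diagonal_apply_eq]
  constructor
  · have := key a
    rw [diagonal_apply_eq, hi, one_mul] at this
    simp [sc] at this
    exact (mul_eq_zero.1 (show g i a * (μ - 1) = 0 by linear_combination -this)).resolve_right (sub_ne_zero.2 hμ1)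
  · have := key b
    rw [diagonal_apply_eq, hi, one_mul] at this
    simp [sc, hab.symm] at this
    exact (mul_eq_zero.1 (show g i b * (μ⁻¹ - 1) = 0 by linear_combination -this)).resolve_right
      (sub_ne_zero.2 (inv_eq_one.not.2 hμ1))

include hS h5 hn in
theorem hasTv_of_two_zeros {g B : Matrix ι ι F} (hg : g ∈ S) (hgB : g * B = 1) (hBg : B * g = 1) (hmon : ¬ IsMon g)
    {r a b : ι} (hab : a ≠ b) (ha : B a r = 0) (hb : B b r = 0) : HasTv S := by
  classical
  rcases hasTv_or_pair hS h5 hn hg hgB hBg hab ha hb with h | ⟨I, hI, hIg⟩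
  · exact h
  have hB : B ∈ S := hS.closed.inv_mem hg hgB
  have hBmon : ¬ IsMon B := fun h => hmon (h.of_inverse hBg hgB)
  obtain ⟨c, hc⟩ := exists_notMem hn I (by omega)
  obtain ⟨e, he⟩ := exists_notMem hn (insert c I) (by have := Finset.card_insert_le c I; omega)
  obtain ⟨f, hf⟩ := exists_notMem hn (insert e (insert c I))
    (by have := Finset.card_insert_le c I; have := Finset.card_insert_le e (insert c I); omega)
  simp only [Finset.mem_insert, not_or] at he hf
  rcases hasTv_or_pair hS h5 hn hB hBg hgB (Ne.symm he.1) (r := a) (hIg c hc).1 (hIg e he.2).1 with h | ⟨I1, hI1, hB1⟩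
  · exact h
  rcases hasTv_or_pair hS h5 hn hB hBg hgB (Ne.symm hf.2.1) (r := a) (hIg c hc).1 (hIg f hf.2.2).1 with h | ⟨I2, hI2, hB2⟩
  · exact h
  obtain ⟨p, hp⟩ := exists_ne_zero_col hgB c
  by_cases hone : ∀ i, i ≠ p → B i c = 0
  · exact hasTv_of_column hS h5 hn hB hBmon hone
  push Not at hone
  obtain ⟨p', hpp, hp'⟩ := hone
  have eI : ∀ J : Finset ι, J.card ≤ 2 → (∀ i, i ∉ J → B i c = 0) → J = {p, p'} := fun J hJ h => by
    refine (Finset.eq_of_subset_of_card_le ?_ (by rw [Finset.card_pair hpp.symm]; exact hJ)).symm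
    intro x hx
    simp only [Finset.mem_insert, Finset.mem_singleton] at hx
    rcases hx with rfl | rfl
    · exact by_contra fun hn => hp (h _ hn)
    · exact by_contra fun hn => hp' (h _ hn)
  have e1 := eI I1 hI1 fun i hi => (hB1 i hi).1
  have e2 := eI I2 hI2 fun i hi => (hB2 i hi).1
  have hprod : ∀ x ∈ ({c, e, f} : Finset ι), ∀ i, (1 : Matrix ι ι F) i x = g i p * B p x + g i p' * B p' x := by
    intro x hx i
    rw [← hgB, mul_apply]
    refine Fintype.sum_eq_add p p' hpp.symm fun k hk => ?_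
    have hk1 : k ∉ I1 := by rw [e1]; simp [hk.1, hk.2]
    have hk2 : k ∉ I2 := by rw [e2]; simp [hk.1, hk.2]
    simp only [Finset.mem_insert, Finset.mem_singleton] at hx
    rcases hx with rfl | rfl | rfl
    · rw [(hB1 k hk1).1, mul_zero]
    · rw [(hB1 k hk1).2, mul_zero]
    · rw [(hB2 k hk2).2, mul_zero]
  exact absurd (no_three (M := fun i j => g i p * B p j + g i p' * B p' j) (fun i j => rfl)
    (i₁ := c) (i₂ := e) (i₃ := f) (c₁ := c) (c₂ := e) (c₃ := f)
    (by rw [← hprod c (by simp)]; simp) (by rw [← hprod e (by simp)]; simp) (by rw [← hprod f (by simp)]; simp)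
    (by rw [← hprod e (by simp)]; simp [Ne.symm he.1]) (by rw [← hprod f (by simp)]; simp [Ne.symm hf.2.1])
    (by rw [← hprod f (by simp)]; simp [Ne.symm hf.1])) not_false

include hS h5 hn in
theorem hasTv_of_full {g B : Matrix ι ι F} (hg : g ∈ S) (hgB : g * B = 1) (hBg : B * g = 1)
    {r : ι} (hfull : ∀ i, B i r ≠ 0) : HasTv S := by
  classical
  by_contra hW
  let d : alternatingGroup ι → ι → F := fun π q => B ((π : Equiv.Perm ι) q) r / B q r
  let h : alternatingGroup ι → Matrix ι ι F := fun π => mon (π : Equiv.Perm ι) (d π)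
  have hh : ∀ π, h π ∈ S := fun π => hS.mon_mem _ _ (by
    rw [det_mon, Equiv.Perm.mem_alternatingGroup.1 π.2]
    simp only [d, Finset.prod_div_distrib]
    rw [Equiv.prod_comp (π : Equiv.Perm ι) fun q => B q r, div_self (Finset.prod_ne_zero_iff.2 fun q _ => hfull q)]
    simp)
  have hfix : ∀ π, (h π *ᵥ fun i => B i r) = fun i => B i r := fun π => by
    rw [mon_mulVec]
    funext p
    simp only [mvec, d, Equiv.apply_symm_apply]
    exact div_mul_cancel₀ _ (hfull _)
  have hmulh : ∀ π π', h (π * π') = h π * h π' := fun π π' => by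
    simp only [h, mon_mul]
    congr 1
    funext q
    simp only [d, Subgroup.coe_mul, Equiv.Perm.mul_apply]
    field_simp [hfull]
  have hz : ∀ π, ∃ (σ : Equiv.Perm ι) (e : ι → F), (∀ q, e q ≠ 0) ∧ g * h π * B = mon σ e := fun π => by
    have hmon : IsMon (g * h π * B) := by_contra fun hm => hW (hasTv_of_fix hS h5 hn hg hgB (hh π) (hfix π) hm)
    obtain ⟨z', -, h1, h2⟩ := hS.closed.inv (hS.closed.mul (hS.closed.mul hg (hh π)) (hS.closed.inv_mem hg hgB))
    exact hmon.exists_eq h1 h2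
  choose σ e he hσ using hz
  have hmul : ∀ π π', σ (π * π') = σ π * σ π' := fun π π' => by
    have h1 : g * h (π * π') * B = (g * h π * B) * (g * h π' * B) := by
      rw [hmulh]; simp only [mul_assoc]; rw [← mul_assoc B g, hBg, one_mul]
    rw [hσ, hσ, hσ, mon_mul] at h1
    ext q
    have h2 := congrFun (congrFun h1 (σ (π * π') q)) q
    by_contra hne
    rw [mon_apply, mon_apply, if_pos rfl, if_neg (fun e => hne e)] at h2
    exact he (π * π') q h2
  let f : alternatingGroup ι →* Equiv.Perm ι := MonoidHom.mk' σ hmul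
  have hfr : ∀ π, f π r = r := fun π => by
    have h1 : (g * h π * B) r r = 1 := by
      have e : (g * h π * B) r r = (g *ᵥ (h π *ᵥ fun k => B k r)) r := by
        rw [mulVec_mulVec]; simp [Matrix.mul_apply, mulVec, dotProduct]
      rw [e, hfix, show (g *ᵥ fun k => B k r) r = (g * B) r r by simp [Matrix.mul_apply, mulVec, dotProduct], hgB,
        Matrix.one_apply_eq]
    rw [hσ, mon_apply] at h1
    by_contra hne
    rw [if_neg (fun e => hne e.symm)] at h1
    exact zero_ne_one h1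
  haveI : IsSimpleGroup (alternatingGroup ι) := alternatingGroup.isSimpleGroup (by rw [Nat.card_eq_fintype_card]; omega)
  rcases f.normal_ker.eq_bot_or_eq_top with hk | hk
  · have hinj : Function.Injective (fun π => (⟨f π, hfr π⟩ : {σ : Equiv.Perm ι // σ r = r})) := fun π π' h =>
      (MonoidHom.ker_eq_bot_iff f).1 hk (congrArg Subtype.val h)
    have h1 := Nat.card_le_card_of_injective _ hinj
    have h2 : Nat.card {σ : Equiv.Perm ι // σ r = r} = Nat.card (Equiv.Perm {x : ι // x ≠ r}) :=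
      Nat.card_congr (((Equiv.subtypeEquivRight (fun σ => by
        constructor
        · intro h x hx; rw [not_not] at hx; rw [hx, h]
        · intro h; exact h r (not_not.2 rfl))).trans (Equiv.Perm.subtypeEquivSubtypePerm (fun x => x ≠ r)).symm))
    rw [h2, Nat.card_perm, Nat.card_eq_fintype_card (α := {x : ι // x ≠ r}), Fintype.card_subtype_compl,
      Fintype.card_subtype_eq] at h1
    haveI : Nontrivial ι := Fintype.one_lt_card_iff_nontrivial.1 (by omega)
    rw [nat_card_alternatingGroup, Nat.card_eq_fintype_card] at h1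
    obtain ⟨k, hk⟩ : ∃ k, Fintype.card ι = k + 1 := ⟨Fintype.card ι - 1, by omega⟩
    rw [hk, Nat.add_sub_cancel, Nat.factorial_succ] at h1
    have h3 := k.factorial_pos
    have h4 : 4 * k.factorial ≤ (k + 1) * k.factorial := Nat.mul_le_mul_right _ (by omega)
    omega
  · have hcomm : ∀ π π' : alternatingGroup ι, π * π' = π' * π := fun π π' => by
      have hm : ∀ π, g * h π * B = mon (1 : Equiv.Perm ι) (e π) := fun π => by
        rw [hσ]
        congr 1
        exact MonoidHom.mem_ker.1 (hk ▸ Subgroup.mem_top π : π ∈ f.ker)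
      have h1 : g * h (π * π') * B = g * h (π' * π) * B := by
        have e1 : ∀ π π', g * h (π * π') * B = (g * h π * B) * (g * h π' * B) := fun π π' => by
          rw [hmulh]; simp only [mul_assoc]; rw [← mul_assoc B g, hBg, one_mul]
        rw [e1, e1, hm, hm, mon_mul, mon_mul]
        congr 1
        funext q
        exact mul_comm _ _
      have h2 : h (π * π') = h (π' * π) := by
        have h3 := congrArg (fun X => B * X * g) h1
        simp only [mul_assoc, hBg, mul_one] at h3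
        rwa [← mul_assoc, ← mul_assoc, hBg, one_mul, one_mul] at h3
      refine Subtype.ext (Equiv.ext fun q => ?_)
      have h3 := congrFun (congrFun h2 (((π * π' : alternatingGroup ι) : Equiv.Perm ι) q)) q
      simp only [h, mon_apply, if_pos rfl] at h3
      by_contra hne
      rw [if_neg hne] at h3
      exact div_ne_zero (hfull _) (hfull _) h3
    obtain ⟨a, -, -⟩ : ∃ a : ι, a ≠ r ∧ True := by
      obtain ⟨a, ha⟩ := exists_notMem hn {r} (by simp)
      exact ⟨a, by simpa using ha, trivial⟩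
    obtain ⟨b, hb⟩ := exists_notMem hn {a} (by simp)
    obtain ⟨c, hc⟩ := exists_notMem hn ({a, b} : Finset ι) (Finset.card_le_two.trans_lt (by norm_num))
    obtain ⟨x, hx⟩ := exists_notMem hn ({a, b, c} : Finset ι) (Finset.card_le_three.trans_lt (by norm_num))
    simp only [Finset.mem_insert, Finset.mem_singleton, not_or] at hb hc hx
    let π₁ : alternatingGroup ι := ⟨Equiv.swap a b * Equiv.swap a c, Equiv.Perm.mem_alternatingGroup.2 (by
      rw [map_mul, Equiv.Perm.sign_swap (Ne.symm hb), Equiv.Perm.sign_swap (Ne.symm hc.1)]; rfl)⟩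
    let π₂ : alternatingGroup ι := ⟨Equiv.swap a b * Equiv.swap a x, Equiv.Perm.mem_alternatingGroup.2 (by
      rw [map_mul, Equiv.Perm.sign_swap (Ne.symm hb), Equiv.Perm.sign_swap (Ne.symm hx.1)]; rfl)⟩
    have := congrArg (fun π : alternatingGroup ι => (π : Equiv.Perm ι) x) (hcomm π₁ π₂)
    simp [π₁, π₂, Equiv.swap_apply_of_ne_of_ne, hb, hc, hx, Ne.symm hb, Ne.symm hc.1, Ne.symm hc.2, Ne.symm hx.1,
      Ne.symm hx.2.1, Ne.symm hx.2.2] at this

include hS h5 hn in
theorem existsUnique_zero (hW : ¬ HasTv S) {y : Matrix ι ι F} (hy : y ∈ S) (hmon : ¬ IsMon y) (q : ι) :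
    ∃ a, y a q = 0 ∧ ∀ b, y b q = 0 → b = a := by
  obtain ⟨B, hB, hyB, hBy⟩ := hS.closed.inv hy
  have hBm : ¬ IsMon B := fun h => hmon (h.of_inverse hBy hyB)
  by_contra hno
  push Not at hno
  by_cases hz : ∀ i, y i q ≠ 0
  · exact hW (hasTv_of_full hS h5 hn hB hBy hyB hz)
  · push Not at hz
    obtain ⟨a, ha⟩ := hz
    obtain ⟨b, hb, hba⟩ := hno a ha
    exact hW (hasTv_of_two_zeros hS h5 hn hB hBy hyB hBm hba hb ha)

end CfsgLib.Classical.DecompMax
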