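import Cfsg.Agent.Lib.Classical.DecompMax.Columns

/-!
# The overgroups of the monomial group contain an elementary transvection
-/

set_option autoImplicit false
set_option linter.unusedSectionVars false
set_option linter.unusedSimpArgs false

namespace CfsgLib.Classical.DecompMax

open Matrix

variable {ι : Type*} [Fintype ι] [DecidableEq ι] {F : Type*} [Field F] [Fintype F]
variable {S : Set (Matrix ι ι F)} (hS : MonOver S) (h5 : 5 ≤ Fintype.card F) (hn : 6 ≤ Fintype.card ι)

/-- The support of a combination of two rows. -/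
noncomputable def combSupp [DecidableEq F] (g : Matrix ι ι F) (i j : ι) (s t : F) : Finset ι :=
  Finset.univ.filter fun p => s * g i p + t * g j p ≠ 0

include h5 hn in
/-- A vector with exactly the prescribed zero and orthogonal to two rows, with a free coordinate. -/
theorem exists_two_solutions (g : Matrix ι ι F) {i j a c e : ι} (hca : c ≠ a) (hea : e ≠ a) (hec : e ≠ c)
    (hΔ : g i c * g j e - g j c * g i e ≠ 0)
    (h1 : ∃ w, w ≠ a ∧ w ≠ c ∧ g i e * g j w - g j e * g i w ≠ 0)
    (h2 : ∃ w, w ≠ a ∧ w ≠ e ∧ g i c * g j w - g j c * g i w ≠ 0) :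
    ∃ x₁ x₂ : ι → F, (∀ x, x = x₁ ∨ x = x₂ → (∀ p, x p = 0 ↔ p = a) ∧ g i ⬝ᵥ x = 0 ∧ g j ⬝ᵥ x = 0) ∧
      x₁ ≠ x₂ ∧ ∃ w, w ≠ a ∧ x₁ w = 1 ∧ x₂ w = 1 := by
  classical
  obtain ⟨w₁, hw1a, hw1c, hw1⟩ := h1
  have hw1e : w₁ ≠ e := fun h => hw1 (by rw [h]; ring)
  obtain ⟨w₂', hw2a, hw2e, hw2⟩ := h2
  have hw2c : w₂' ≠ c := fun h => hw2 (by rw [h]; ring)
  set L1 : ι → F := fun p => g i e * g j p - g j e * g i p with hL1
  set L2 : ι → F := fun p => g i c * g j p - g j c * g i p with hL2
  obtain ⟨t, hta, htc, hte, htw, hL2t⟩ : ∃ t, t ≠ a ∧ t ≠ c ∧ t ≠ e ∧ t ≠ w₁ ∧ (L2 w₁ = 0 → L2 t ≠ 0) := by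
    by_cases hww : w₂' = w₁
    · obtain ⟨t, ht⟩ := exists_notMem hn ({a, c, e, w₁} : Finset ι) (Finset.card_le_four.trans_lt (by norm_num))
      simp only [Finset.mem_insert, Finset.mem_singleton, not_or] at ht
      exact ⟨t, ht.1, ht.2.1, ht.2.2.1, ht.2.2.2, fun h => absurd h (hww ▸ hw2)⟩
    · exact ⟨w₂', hw2a, hw2c, hw2e, hww, fun _ => hw2⟩
  set free := ({a, c, e} : Finset ι)ᶜ with hfree
  set K1 := ∑ p ∈ free \ {w₁, t}, L1 p
  set K2 := ∑ p ∈ free \ {w₁, t}, L2 p
  obtain ⟨T, hT0, hT2, -, -⟩ := exists_avoid h5 (-K2 / L2 t) 1 1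
  obtain ⟨s₁, hs10, hs11, hs12, -⟩ := exists_avoid h5 (-(L1 t * T + K1) / L1 w₁) (-(L2 t * T + K2) / L2 w₁) 1
  obtain ⟨s₂, hs20, hs21, hs22, hs2⟩ := exists_avoid h5 (-(L1 t * T + K1) / L1 w₁) (-(L2 t * T + K2) / L2 w₁) s₁
  set y : F → ι → F := fun s p => if p = a ∨ p = c ∨ p = e then 0 else if p = w₁ then s else if p = t then T else 1
  set Δ := g i c * g j e - g j c * g i e
  set x : F → ι → F := fun s => y s + Pi.single c ((L1 ⬝ᵥ y s) / Δ) + Pi.single e (-(L2 ⬝ᵥ y s) / Δ)
  have dotL : ∀ (L : ι → F) s, L ⬝ᵥ y s = L w₁ * s + L t * T + ∑ p ∈ free \ {w₁, t}, L p := by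
    intro L s
    have hsub : ({w₁, t} : Finset ι) ⊆ free := by
      intro p hp
      simp only [Finset.mem_insert, Finset.mem_singleton] at hp
      simp only [hfree, Finset.mem_compl, Finset.mem_insert, Finset.mem_singleton, not_or]
      rcases hp with rfl | rfl
      · exact ⟨hw1a, hw1c, hw1e⟩
      · exact ⟨hta, htc, hte⟩
    rw [dotProduct, ← Finset.sum_subset (Finset.subset_univ free) (fun p _ hp => by
      have hp' : p = a ∨ p = c ∨ p = e := by
        simp only [hfree, Finset.mem_compl, not_not, Finset.mem_insert, Finset.mem_singleton] at hp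
        exact hp
      simp [y, hp']), ← Finset.sum_sdiff hsub, Finset.sum_pair htw.symm]
    have e0 : ∀ p ∈ free \ {w₁, t}, L p * y s p = L p := fun p hp => by
      simp only [Finset.mem_sdiff, hfree, Finset.mem_compl, Finset.mem_insert, Finset.mem_singleton, not_or] at hp
      simp [y, hp.1.1, hp.1.2.1, hp.1.2.2, hp.2.1, hp.2.2]
    rw [Finset.sum_congr rfl e0]
    have ey1 : y s w₁ = s := by simp [y, hw1a, hw1c, hw1e]
    have ey2 : y s t = T := by simp [y, hta, htc, hte, htw]
    rw [ey1, ey2]; ring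
  have good : ∀ s, s ≠ 0 → L1 ⬝ᵥ y s ≠ 0 → L2 ⬝ᵥ y s ≠ 0 →
      (∀ p, x s p = 0 ↔ p = a) ∧ g i ⬝ᵥ x s = 0 ∧ g j ⬝ᵥ x s = 0 := by
    intro s hs hl1 hl2
    refine ⟨fun p => ?_, ?_, ?_⟩
    · by_cases hpa : p = a
      · subst hpa; simp [x, y, hca.symm, hea.symm]
      simp only [hpa, iff_false]
      by_cases hpc : p = c
      · subst hpc; simpa [x, y, hec.symm] using div_ne_zero hl1 hΔ
      by_cases hpe : p = e
      · subst hpe; simpa [x, y, hec] using div_ne_zero (neg_ne_zero.2 hl2) hΔ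
      simp only [x, y, Pi.add_apply, Pi.single_apply, hpa, hpc, hpe, or_self, if_false, add_zero]
      split_ifs <;> first | exact hs | exact hT0 | exact one_ne_zero
    all_goals
      have eL1 : L1 ⬝ᵥ y s = g i e * (g j ⬝ᵥ y s) - g j e * (g i ⬝ᵥ y s) := by
        simp only [hL1, dotProduct, Finset.mul_sum, ← Finset.sum_sub_distrib]
        exact Finset.sum_congr rfl fun p _ => by ring
      have eL2 : L2 ⬝ᵥ y s = g i c * (g j ⬝ᵥ y s) - g j c * (g i ⬝ᵥ y s) := by
        simp only [hL2, dotProduct, Finset.mul_sum, ← Finset.sum_sub_distrib]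
        exact Finset.sum_congr rfl fun p _ => by ring
      simp only [x, dotProduct_add, dotProduct_single, eL1, eL2]
      field_simp
      simp only [Δ]
      ring
  have hL1' : ∀ s, s ≠ -(L1 t * T + K1) / L1 w₁ → L1 ⬝ᵥ y s ≠ 0 := fun s hs h => hs (by
    rw [dotL] at h; rw [eq_div_iff (show L1 w₁ ≠ 0 from hw1)]; linear_combination h)
  have hL2' : ∀ s, s ≠ -(L2 t * T + K2) / L2 w₁ → L2 ⬝ᵥ y s ≠ 0 := fun s hs h => by
    rw [dotL] at h
    by_cases h0 : L2 w₁ = 0
    · have := hL2t h0
      rw [h0, zero_mul, zero_add] at h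
      exact hT2 (by rw [eq_div_iff this]; linear_combination h)
    · exact hs (by rw [eq_div_iff h0]; linear_combination h)
  obtain ⟨w, hw⟩ := exists_notMem hn (insert t ({a, c, e, w₁} : Finset ι))
    ((Finset.card_insert_le _ _).trans_lt (by have := Finset.card_le_four (a := a) (b := c) (c := e) (d := w₁); omega))
  simp only [Finset.mem_insert, Finset.mem_singleton, not_or] at hw
  refine ⟨x s₁, x s₂, ?_, fun h => hs2 ?_, w, hw.2.1, ?_, ?_⟩
  · rintro z (rfl | rfl)
    · exact good s₁ hs10 (hL1' _ hs11) (hL2' _ hs12)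
    · exact good s₂ hs20 (hL1' _ hs21) (hL2' _ hs22)
  · have := congrFun h w₁
    simpa [x, y, hw1a, hw1c, hw1e] using this.symm
  · simp [x, y, hw.1, hw.2.1, hw.2.2.1, hw.2.2.2.1, hw.2.2.2.2]
  · simp [x, y, hw.1, hw.2.1, hw.2.2.1, hw.2.2.2.1, hw.2.2.2.2]

include hS h5 hn in
theorem hasTv_of_not_isMon {g : Matrix ι ι F} (hg : g ∈ S) (hmon : ¬ IsMon g) : HasTv S := by
  classical
  by_contra hW
  obtain ⟨B, hB, hgB, hBg⟩ := hS.closed.inv hg
  have hBm : ¬ IsMon B := fun h => hmon (h.of_inverse hBg hgB)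
  have hcol := fun q => existsUnique_zero hS h5 hn hW hB hBm q
  have hrowOf : ∀ y ∈ S, ¬ IsMon y → ∀ p, ∃ a, y p a = 0 ∧ ∀ b, y p b = 0 → b = a := fun y hy hym p => by
    obtain ⟨z, -, hyz, hzy⟩ := hS.closed.inv hy
    refine existsUnique_zero hS.transpose h5 hn (fun h => hW (hasTv_of_transpose h)) (y := yᵀ) (by simpa using hy) ?_ p
    intro ht
    obtain ⟨σ, d, -, he⟩ := ht.exists_eq (B := zᵀ) (by rw [← transpose_mul, hzy, transpose_one])
      (by rw [← transpose_mul, hyz, transpose_one])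
    exact hym (by rw [← transpose_transpose y, he, mon_transpose]; exact isMon_mon _ _)
  have hrow := hrowOf g hg hmon
  obtain ⟨i⟩ : Nonempty ι := Fintype.card_pos_iff.1 (by omega)
  obtain ⟨j, hji⟩ := exists_notMem hn {i} (by simp)
  rw [Finset.mem_singleton] at hji
  -- combinations of the two rows
  have hsingle : ∀ s t : F, (s ≠ 0 ∨ t ≠ 0) → ∀ c, ∃ p, p ≠ c ∧ s * g i p + t * g j p ≠ 0 := by
    intro s t hst c
    by_contra hall
    push Not at hall
    have key : ∀ q, (s * g i c + t * g j c) * B c q =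
        s * (1 : Matrix ι ι F) i q + t * (1 : Matrix ι ι F) j q := fun q => by
      have e : ∑ p, (s * g i p + t * g j p) * B p q = (s * g i c + t * g j c) * B c q :=
        Finset.sum_eq_single c (fun p _ hp => by rw [hall p hp, zero_mul]) (by simp)
      rw [← e, ← hgB, mul_apply, mul_apply, Finset.mul_sum, Finset.mul_sum, ← Finset.sum_add_distrib]
      exact Finset.sum_congr rfl fun p _ => by ring
    by_cases hx : s * g i c + t * g j c = 0
    · have h1 := key i
      have h2 := key j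
      rw [hx, zero_mul, Matrix.one_apply_eq, Matrix.one_apply_ne hji] at h1
      rw [hx, zero_mul, Matrix.one_apply_eq, Matrix.one_apply_ne (Ne.symm hji)] at h2
      rcases hst with h | h
      · exact h (by linear_combination -h1)
      · exact h (by linear_combination -h2)
    obtain ⟨a, ha, huniq⟩ := hrowOf B hB hBm c
    obtain ⟨u, hu⟩ := exists_notMem hn ({i, j, a} : Finset ι) (Finset.card_le_three.trans_lt (by norm_num))
    simp only [Finset.mem_insert, Finset.mem_singleton, not_or] at hu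
    have h := key u
    rw [Matrix.one_apply_ne (Ne.symm hu.1), Matrix.one_apply_ne (Ne.symm hu.2.1), mul_zero, mul_zero, add_zero] at h
    exact hu.2.2 (huniq u ((mul_eq_zero.1 h).resolve_left hx))
  have hrank : ∀ s t s' t' : F, (combSupp g i j s t).card ≤ 2 → (combSupp g i j s' t').card ≤ 2 →
      s * t' - s' * t = 0 := by
    intro s t s' t' h h'
    by_contra hD
    obtain ⟨a, -, huniq⟩ := hrow i
    obtain ⟨p, hp⟩ := exists_notMem hn (insert a (combSupp g i j s t ∪ combSupp g i j s' t'))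
      ((Finset.card_insert_le _ _).trans_lt (by have := Finset.card_union_le (combSupp g i j s t) (combSupp g i j s' t'); omega))
    simp only [Finset.mem_insert, Finset.mem_union, combSupp, Finset.mem_filter, Finset.mem_univ, true_and,
      not_or, not_not] at hp
    refine hp.1 (huniq p ?_)
    have : (s * t' - s' * t) * g i p = 0 := by linear_combination t' * hp.2.1 - t * hp.2.2
    exact (mul_eq_zero.1 this).resolve_left hD
  -- a small combination, if there is one
  obtain ⟨S0, hS0, hprop⟩ : ∃ S0 : Finset ι, S0.card ≤ 2 ∧ ∀ a, a ∉ S0 → ∀ c s t : _, (s ≠ (0 : F) ∨ t ≠ 0) →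
      ∃ p, p ≠ a ∧ p ≠ c ∧ s * g i p + t * g j p ≠ 0 := by
    by_cases hsm : ∃ s t : F, (s ≠ 0 ∨ t ≠ 0) ∧ (combSupp g i j s t).card ≤ 2
    · obtain ⟨s0, t0, hst0, hcard⟩ := hsm
      refine ⟨combSupp g i j s0 t0, hcard, fun a ha c s t hst => ?_⟩
      by_contra hall
      push Not at hall
      have hsub : combSupp g i j s t ⊆ {a, c} := fun p hp => by
        simp only [combSupp, Finset.mem_filter, Finset.mem_univ, true_and] at hp
        simp only [Finset.mem_insert, Finset.mem_singleton]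
        by_contra h; push Not at h; exact hp (hall p h.1 h.2)
      have hD := hrank s t s0 t0 ((Finset.card_le_card hsub).trans Finset.card_le_two) hcard
      obtain ⟨p, hpc, hp⟩ := hsingle s0 t0 hst0 c
      have hp' : s * g i p + t * g j p = 0 := hall p (fun e => ha (by rw [← e]; simp [combSupp, hp])) hpc
      have e1 : s * (s0 * g i p + t0 * g j p) = 0 := by linear_combination s0 * hp' + g j p * hD
      have e2 : t * (s0 * g i p + t0 * g j p) = 0 := by linear_combination t0 * hp' - g i p * hD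
      rcases hst with h | h
      · exact h ((mul_eq_zero.1 e1).resolve_right hp)
      · exact h ((mul_eq_zero.1 e2).resolve_right hp)
    · push Not at hsm
      refine ⟨∅, by simp, fun a _ c s t hst => ?_⟩
      obtain ⟨p, hp, hp'⟩ := Finset.exists_mem_notMem_of_card_lt_card (s := ({a, c} : Finset ι)) (t := combSupp g i j s t)
        (Finset.card_le_two.trans_lt (hsm s t hst))
      simp only [Finset.mem_insert, Finset.mem_singleton, not_or] at hp'
      exact ⟨p, hp'.1, hp'.2, (Finset.mem_filter.1 hp).2⟩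
  choose α hα hαu using hcol
  obtain ⟨a, haS, hfib⟩ : ∃ a, a ∉ S0 ∧ (Finset.univ.filter fun l => α l = a).card ≤ 1 := by
    by_contra hall
    push Not at hall
    have h1 := Finset.card_eq_sum_card_fiberwise (f := α) (s := Finset.univ) (t := Finset.univ) (by simp)
    have h2 : 2 * (S0ᶜ : Finset ι).card ≤ ∑ a ∈ S0ᶜ, (Finset.univ.filter fun l => α l = a).card := by
      rw [mul_comm, ← smul_eq_mul, ← Finset.sum_const]
      exact Finset.sum_le_sum fun a ha => hall a (Finset.mem_compl.1 ha)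
    have h3 := Finset.sum_le_sum_of_subset (f := fun a => (Finset.univ.filter fun l => α l = a).card)
      (Finset.subset_univ (S0ᶜ : Finset ι))
    rw [Finset.card_compl] at h2
    rw [Finset.card_univ] at h1
    omega
  obtain ⟨z, hz, hzu⟩ := hrow i
  obtain ⟨c, hc⟩ := exists_notMem hn ({a, z} : Finset ι) (Finset.card_le_two.trans_lt (by norm_num))
  simp only [Finset.mem_insert, Finset.mem_singleton, not_or] at hc
  have hic : g i c ≠ 0 := fun h => hc.2 (hzu c h)
  obtain ⟨e, hea, hec, he⟩ := hprop a haS c (-g j c) (g i c) (Or.inr hic)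
  have hΔ : g i c * g j e - g j c * g i e ≠ 0 := fun h => he (by linear_combination h)
  obtain ⟨x₁, x₂, hx, hne, w, hwa, hw1, hw2⟩ := exists_two_solutions h5 hn g hc.1 hea hec hΔ (by
    obtain ⟨p, hp1, hp2, hp⟩ := hprop a haS c (-g j e) (g i e) (by
      by_contra h; push Not at h; exact hΔ (by rw [neg_eq_zero.1 h.1, h.2]; ring))
    exact ⟨p, hp1, hp2, fun h => hp (by linear_combination h)⟩) (by
    obtain ⟨p, hp1, hp2, hp⟩ := hprop a haS e (-g j c) (g i c) (Or.inr hic)
    exact ⟨p, hp1, hp2, fun h => hp (by linear_combination h)⟩)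
  -- each solution is a multiple of a column of the inverse
  obtain ⟨z0, hz0, hz0u⟩ := existsUnique_zero hS h5 hn hW hg hmon i
  have realise : ∀ x, x = x₁ ∨ x = x₂ → ∃ l k, α l = a ∧ ∀ p, x p = k * B p l := by
    intro x hx'
    obtain ⟨hx0, hxi, hxj⟩ := hx x hx'
    set σ := Equiv.swap z0 a
    set d0 : ι → F := fun q => if q = z0 then 1 else x (σ q) / g q i
    have hd0 : ∀ q, d0 q ≠ 0 := fun q => by
      simp only [d0]
      split_ifs with h
      · exact one_ne_zero
      · refine div_ne_zero (fun h' => h ?_) (fun h' => h (hz0u q h'))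
        have := (hx0 _).1 h'
        exact σ.injective (by simp [σ, this])
    set P := (σ.sign : F) * ∏ q, d0 q with hP
    have hP0 : P ≠ 0 := mul_ne_zero (by rcases Int.units_eq_one_or σ.sign with h | h <;> simp [h])
      (Finset.prod_ne_zero_iff.2 fun q _ => hd0 q)
    set d := Function.update d0 z0 P⁻¹
    have hdet : (mon σ d).det = 1 := by
      have ee : ∏ q, d q = P⁻¹ * ∏ q, d0 q := by
        rw [Finset.prod_update_of_mem (Finset.mem_univ z0), ← Finset.mul_prod_erase Finset.univ d0 (Finset.mem_univ z0),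
          show d0 z0 = 1 by simp [d0], one_mul, Finset.sdiff_singleton_eq_erase]
      rw [det_mon, ee, mul_left_comm, ← hP, inv_mul_cancel₀ hP0]
    have hhw : (mon σ d *ᵥ fun q => g q i) = x := by
      rw [mon_mulVec]
      funext p
      simp only [mvec]
      by_cases hp : σ.symm p = z0
      · rw [hp, hz0, mul_zero]
        have : p = a := by rw [← σ.apply_symm_apply p, hp]; simp [σ]
        exact ((hx0 p).2 this).symm
      · simp only [d, Function.update_of_ne hp, d0, if_neg hp, Equiv.apply_symm_apply]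
        exact div_mul_cancel₀ _ (fun h => hp (hz0u _ h))
    set y := g * mon σ d * g
    have hy : y ∈ S := hS.closed.mul (hS.closed.mul hg (hS.mon_mem _ _ hdet)) hg
    have hyc : ∀ q, y q i = g q ⬝ᵥ x := fun q => by
      rw [← hhw]
      show _ = (g *ᵥ (mon σ d *ᵥ fun q => g q i)) q
      rw [mulVec_mulVec]
      simp [y, Matrix.mul_apply, mulVec, dotProduct]
    have hym : IsMon y := by
      by_contra h
      obtain ⟨b, -, hb⟩ := existsUnique_zero hS h5 hn hW hy h i
      exact hji ((hb j (by rw [hyc, hxj])).trans (hb i (by rw [hyc, hxi])).symm)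
    obtain ⟨y', -, hyy, hyy'⟩ := hS.closed.inv hy
    obtain ⟨l, hl⟩ := exists_ne_zero_col hyy' i
    have hxl : ∀ p, x p = y l i * B p l := fun p => by
      have e1 : (B *ᵥ fun q => y q i) = x := by
        rw [show (fun q => y q i) = g *ᵥ x from funext hyc, mulVec_mulVec, hBg, one_mulVec]
      rw [← congrFun e1 p]
      simp only [mulVec, dotProduct]
      rw [Finset.sum_eq_single l (fun q _ hq => by
        rw [show y q i = 0 from by_contra fun h => hq (hym q l i h hl), mul_zero]) (by simp)]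
      ring
    refine ⟨l, y l i, ?_, hxl⟩
    by_contra hne'
    have := (hx0 (α l)).1 (by rw [hxl, hα, mul_zero])
    exact hne' this
  obtain ⟨l₁, k₁, hl1, hk1⟩ := realise x₁ (Or.inl rfl)
  obtain ⟨l₂, k₂, hl2, hk2⟩ := realise x₂ (Or.inr rfl)
  have hll : l₁ = l₂ := Finset.card_le_one.1 hfib l₁ (by simp [hl1]) l₂ (by simp [hl2])
  subst hll
  refine hne (funext fun p => ?_)
  have e1 := hk1 w
  have e2 := hk2 w
  rw [hw1] at e1
  rw [hw2] at e2
  have hb : B w l₁ ≠ 0 := right_ne_zero_of_mul (e1 ▸ one_ne_zero)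
  rw [hk1, hk2, mul_right_cancel₀ hb (e1.symm.trans e2)]

end CfsgLib.Classical.DecompMax
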