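import Cfsg.Agent.Lib.Classical.DecompMax.Basic

/-!
# A homology outside the monomial group produces an elementary transvection
-/

set_option autoImplicit false
set_option linter.unusedSectionVars false

namespace CfsgLib.Classical.DecompMax

open Matrix

variable {ι : Type*} [Fintype ι] [DecidableEq ι] {F : Type*} [Field F]

theorem tv_mulVec (u φ x : ι → F) : tv u φ *ᵥ x = x + (φ ⬝ᵥ x) • u := by
  rw [tv, add_mulVec, one_mulVec, vecMulVec_mulVec, op_smul_eq_smul]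

theorem vecMul_tv (u φ x : ι → F) : x ᵥ* tv u φ = x + (x ⬝ᵥ u) • φ := by
  rw [tv, vecMul_add, vecMul_one, vecMul_vecMulVec]

@[simp] theorem one_symm_apply (p : ι) : (1 : Equiv.Perm ι).symm p = p := rfl

/-- A group of matrices fixing the axis `r` and containing all monomial ones that do so. -/
structure AxisGrp (r : ι) (G : Set (Matrix ι ι F)) : Prop where
  closed : Closed G
  mon_mem : ∀ (σ : Equiv.Perm ι) (d : ι → F), σ r = r → d r = 1 → (∀ q, d q ≠ 0) → mon σ d ∈ G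

theorem AxisGrp.transpose {r : ι} {G : Set (Matrix ι ι F)} (h : AxisGrp r G) : AxisGrp r {A | Aᵀ ∈ G} where
  closed := h.closed.transpose
  mon_mem σ d hσ hd hd0 := by
    show (mon σ d)ᵀ ∈ G
    rw [mon_transpose]
    have hs : σ.symm r = r := by rw [Equiv.symm_apply_eq, hσ]
    exact h.mon_mem _ _ hs (by show d (σ.symm r) = 1; rw [hs, hd]) (fun q => hd0 _)

/-- All homologies with centre `u` and axis `φ`. -/
def Hom (G : Set (Matrix ι ι F)) (r : ι) (u φ : ι → F) : Prop :=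
  φ ⬝ᵥ u = 1 ∧ u r = 0 ∧ φ r = 0 ∧ ∀ l : F, l ≠ 0 → tv ((l - 1) • u) φ ∈ G

/-- All transvections with centre a multiple of `w` and axis `φ`. -/
def Tvs (G : Set (Matrix ι ι F)) (r : ι) (w φ : ι → F) : Prop :=
  φ ⬝ᵥ w = 0 ∧ w r = 0 ∧ φ r = 0 ∧ ∀ c : F, tv (c • w) φ ∈ G

/-- An elementary transvection away from `r`. -/
def Win (G : Set (Matrix ι ι F)) (r : ι) : Prop :=
  ∃ (s t : ι) (c : F), s ≠ r ∧ t ≠ r ∧ s ≠ t ∧ c ≠ 0 ∧ transvection s t c ∈ G

theorem transvection_transpose (s t : ι) (c : F) : (transvection s t c)ᵀ = transvection t s c := by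
  simp [transvection]

theorem win_of_transpose {G : Set (Matrix ι ι F)} {r : ι} (h : Win {A | Aᵀ ∈ G} r) : Win G r := by
  obtain ⟨s, t, c, hs, ht, hst, hc, hm⟩ := h
  exact ⟨t, s, c, ht, hs, hst.symm, hc, transvection_transpose s t c ▸ hm⟩

theorem Hom.transpose {G : Set (Matrix ι ι F)} {r : ι} {u φ : ι → F} (h : Hom G r u φ) :
    Hom {A | Aᵀ ∈ G} r φ u :=
  ⟨by rw [dotProduct_comm]; exact h.1, h.2.2.1, h.2.1, fun l hl => by
    show (tv ((l - 1) • φ) u)ᵀ ∈ G
    rw [tv_transpose, ← tv_smul]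
    exact h.2.2.2 l hl⟩

variable [Fintype F] (h5 : 5 ≤ Fintype.card F) {r : ι} {G : Set (Matrix ι ι F)} (hG : AxisGrp r G)

include hG in
theorem Hom.mono {u φ : ι → F} (h : Hom G r u φ) {σ : Equiv.Perm ι} {d : ι → F} (hσ : σ r = r) (hdr : d r = 1)
    (hd : ∀ q, d q ≠ 0) : Hom G r (mvec σ d u) (mcov σ d φ) := by
  have hs : σ.symm r = r := by rw [Equiv.symm_apply_eq, hσ]
  refine ⟨by rw [mcov_dot σ hd]; exact h.1, by simp [mvec, hs, h.2.1], by simp [mcov, hs, h.2.2.1], fun l hl => ?_⟩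
  have e : (l - 1) • mvec σ d u = mvec σ d ((l - 1) • u) := by
    funext p; simp only [mvec, Pi.smul_apply, smul_eq_mul]; ring
  rw [e, ← mon_conj_tv σ hd]
  exact hG.closed.conj (hG.mon_mem σ d hσ hdr hd) (mon_mul_inv σ hd) (h.2.2.2 l hl)

include hG h5 in
theorem Hom.sub {u u' φ : ι → F} (h : Hom G r u φ) (h' : Hom G r u' φ) : Tvs G r (u - u') φ := by
  have hw : φ ⬝ᵥ (u - u') = 0 := by rw [dotProduct_sub, h.1, h'.1, sub_self]
  have hne : ∀ c : F, c ≠ 1 → tv (c • (u - u')) φ ∈ G := fun c hc => by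
    have h0 : (1 - c) ≠ 0 := sub_ne_zero.2 hc.symm
    have e : tv (((1 - c)⁻¹ - 1) • u) φ * tv ((1 - c - 1) • u') φ = tv (c • (u - u')) φ := by
      rw [tv_mul_same_right, dotProduct_smul, h'.1]
      congr 1
      funext p
      simp only [Pi.add_apply, Pi.smul_apply, Pi.sub_apply, smul_eq_mul]
      field_simp
      ring
    exact e ▸ hG.closed.mul (h.2.2.2 _ (inv_ne_zero h0)) (h'.2.2.2 _ h0)
  refine ⟨hw, by simp [h.2.1, h'.2.1], h.2.2.1, fun c => ?_⟩
  by_cases hc : c = 1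
  · obtain ⟨x, hx0, hx1, -, -⟩ := exists_avoid h5 1 1 1
    have e : tv (x • (u - u')) φ * tv ((1 - x) • (u - u')) φ = tv (c • (u - u')) φ := by
      rw [tv_mul_same_right, dotProduct_smul, hw, smul_zero, zero_smul, add_zero, ← add_smul, add_sub_cancel, hc]
    exact e ▸ hG.closed.mul (hne x hx1) (hne (1 - x) (by simpa using hx0))
  · exact hne c hc

include hG in
theorem Hom.add {u w φ : ι → F} (h : Hom G r u φ) (h' : Tvs G r w φ) (c : F) : Hom G r (u + c • w) φ := by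
  refine ⟨by rw [dotProduct_add, dotProduct_smul, h.1, h'.1, smul_zero, add_zero], by simp [h.2.1, h'.2.1],
    h.2.2.1, fun l hl => ?_⟩
  have hcw : φ ⬝ᵥ (c • w) = 0 := by rw [dotProduct_smul, h'.1, smul_zero]
  have e : tv (c • w) φ * tv ((l - 1) • u) φ * tv (-(c • w)) φ = tv ((l - 1) • (u + c • w)) φ := by
    rw [tv_conj (tv_mul_neg _ _ hcw), tv_mulVec, vecMul_tv, dotProduct_smul, h.1, dotProduct_neg, hcw]
    simp [smul_add, smul_eq_mul]
  exact e ▸ hG.closed.conj (h'.2.2.2 c) (tv_mul_neg _ _ hcw) (h.2.2.2 l hl)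

include hG in
theorem Hom.conjBy {u φ u' φ' : ι → F} (h : Hom G r u φ) (h' : Hom G r u' φ') {l : F} (hl : l ≠ 0) :
    Hom G r (u' + ((l - 1) * (φ ⬝ᵥ u')) • u) (φ' + ((l⁻¹ - 1) * (φ' ⬝ᵥ u)) • φ) := by
  have hinv : tv ((l - 1) • u) φ * tv ((l⁻¹ - 1) • u) φ = 1 := by
    rw [tv_mul_same_right, dotProduct_smul, h.1, ← tv_zero_left φ]
    congr 1
    funext p
    simp only [Pi.add_apply, Pi.smul_apply, smul_eq_mul, Pi.zero_apply]
    field_simp
    ring
  refine ⟨?_, by simp [h.2.1, h'.2.1], by simp [h.2.2.1, h'.2.2.1], fun m hm => ?_⟩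
  · simp only [add_dotProduct, dotProduct_add, smul_dotProduct, dotProduct_smul, h.1, h'.1, smul_eq_mul]
    field_simp
    ring
  · have e : tv ((l - 1) • u) φ * tv ((m - 1) • u') φ' * tv ((l⁻¹ - 1) • u) φ =
        tv ((m - 1) • (u' + ((l - 1) * (φ ⬝ᵥ u')) • u)) (φ' + ((l⁻¹ - 1) * (φ' ⬝ᵥ u)) • φ) := by
      rw [tv_conj hinv, tv_mulVec, vecMul_tv, dotProduct_smul, dotProduct_smul]
      congr 1
      funext p
      simp only [Pi.add_apply, Pi.smul_apply, smul_eq_mul]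
      ring
    exact e ▸ hG.closed.conj (h.2.2.2 l hl) hinv (h'.2.2.2 m hm)

include hG h5 in
theorem win_of_center {u φ : ι → F} (h : Hom G r u φ) {s : ι} (hus : u s ≠ 0) (hφs : φ s = 0) : Win G r := by
  have hsr : s ≠ r := fun e => hus (e ▸ h.2.1)
  obtain ⟨μ, hμ0, hμ1, -, -⟩ := exists_avoid h5 1 1 1
  let d : ι → F := Function.update 1 s μ
  have hd : ∀ q, d q ≠ 0 := fun q => by by_cases hq : q = s <;> simp [d, hq, hμ0]
  have hdr : d r = 1 := by simp [d, hsr.symm]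
  have h' := h.mono hG (σ := 1) (d := d) rfl hdr hd
  have e1 : mcov 1 d φ = φ := by
    funext p
    by_cases hp : p = s <;> simp [mcov, d, hp, hφs]
  rw [e1] at h'
  have hT := h.sub h5 hG h'
  set a := (1 - μ) * u s with ha
  have ha0 : a ≠ 0 := mul_ne_zero (sub_ne_zero.2 hμ1.symm) hus
  have e2 : u - mvec 1 d u = Pi.single s a := by
    funext p
    by_cases hp : p = s
    · subst hp; simp [mvec, d, ha]; ring
    · simp [mvec, d, hp]
  rw [e2] at hT
  obtain ⟨k, hk⟩ : ∃ k, φ k ≠ 0 := by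
    by_contra hall
    push Not at hall
    exact one_ne_zero (h.1 ▸ (show φ ⬝ᵥ u = 0 by simp [dotProduct, hall]))
  have hks : k ≠ s := fun e => hk (e ▸ hφs)
  have hkr : k ≠ r := fun e => hk (e ▸ h.2.2.1)
  let d2 : ι → F := Function.update 1 k μ
  have hd2 : ∀ q, d2 q ≠ 0 := fun q => by by_cases hq : q = k <;> simp [d2, hq, hμ0]
  set φ2 := mcov 1 d2 φ with hφ2
  have hv : mvec 1 d2 (Pi.single s a) = Pi.single s a := by
    funext p
    by_cases hp : p = s
    · subst hp; simp [mvec, d2, hks.symm]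
    · simp [mvec, hp]
  have hconj : tv (Pi.single s a) φ2 ∈ G := by
    have := hG.closed.conj (hG.mon_mem 1 d2 rfl (by simp [d2, hkr.symm]) hd2) (mon_mul_inv 1 hd2) (hT.2.2.2 1)
    rwa [one_smul, mon_conj_tv 1 hd2, hv] at this
  have hneg : tv (Pi.single s a) (-φ) ∈ G := by
    have := hT.2.2.2 (-1)
    rwa [tv_smul, neg_one_smul] at this
  have hdot : φ2 ⬝ᵥ Pi.single s a = 0 := by
    rw [dotProduct_single, show φ2 s = 0 by simp [hφ2, mcov, hφs], zero_mul]
  have e3 : tv (Pi.single s a) φ2 * tv (Pi.single s a) (-φ) = transvection s k (a * ((μ⁻¹ - 1) * φ k)) := by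
    rw [tv_mul_same_left _ _ _ hdot, transvection_eq_tv]
    ext i j
    simp only [tv_apply, Pi.add_apply, Pi.neg_apply, hφ2, mcov]
    by_cases hi : i = s <;> by_cases hj : j = k <;> simp [d2, hi, hj]
    exact Or.inl (by field_simp; ring)
  exact ⟨s, k, _, hsr, hkr, hks.symm,
    mul_ne_zero ha0 (mul_ne_zero (sub_ne_zero.2 (inv_eq_one.not.2 hμ1)) hk), e3 ▸ hG.closed.mul hconj hneg⟩

include hG h5 in
theorem win_of_axis {u φ : ι → F} (h : Hom G r u φ) {s : ι} (hφs : φ s ≠ 0) (hus : u s = 0) : Win G r :=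
  win_of_transpose (win_of_center h5 hG.transpose h.transpose hφs hus)

include hG h5 in
theorem win_of_unequal {u φ : ι → F} (h : Hom G r u φ) {s k : ι} (hs : φ s ≠ 0) (hk : φ k ≠ 0)
    (hne : u s * φ s ≠ u k * φ k) : Win G r := by
  have hsk : s ≠ k := fun e => hne (e ▸ rfl)
  have hsr : s ≠ r := fun e => hs (e ▸ h.2.2.1)
  have hkr : k ≠ r := fun e => hk (e ▸ h.2.2.1)
  let d : ι → F := fun q => if q = s then φ s / φ k else if q = k then φ k / φ s else 1
  have hd : ∀ q, d q ≠ 0 := fun q => by simp only [d]; split_ifs <;> simp [hs, hk]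
  have h' := h.mono hG (σ := Equiv.swap s k) (d := d) (Equiv.swap_apply_of_ne_of_ne hsr.symm hkr.symm)
    (by simp [d, hsr.symm, hkr.symm]) hd
  have e1 : mcov (Equiv.swap s k) d φ = φ := by
    funext p
    by_cases hp : p = s
    · subst hp; simp [mcov, d, hsk.symm]; field_simp
    by_cases hp' : p = k
    · subst hp'; simp [mcov, d]; field_simp
    simp [mcov, d, Equiv.swap_apply_of_ne_of_ne hp hp', hp, hp']
  rw [e1] at h'
  have hT := h.sub h5 hG h'
  set w := u - mvec (Equiv.swap s k) d u with hw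
  have hws : w s ≠ 0 := by
    have e : w s * φ s = u s * φ s - u k * φ k := by
      simp [hw, mvec, d, hsk.symm]
      field_simp
    intro h0
    rw [h0, zero_mul] at e
    exact hne (sub_eq_zero.1 e.symm)
  have h2 := h.add hG hT (-(u s) / w s)
  refine win_of_axis h5 hG h2 hs ?_
  simp only [Pi.add_apply, Pi.smul_apply, smul_eq_mul]
  field_simp
  ring

include hG h5 in
/-- Either we win, or the supports agree and the products are constant. -/
theorem win_or_balanced {u φ : ι → F} (h : Hom G r u φ) :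
    Win G r ∨ ((∀ p, u p = 0 ↔ φ p = 0) ∧ ∀ p p', u p ≠ 0 → u p' ≠ 0 → u p * φ p = u p' * φ p') := by
  by_cases hW : Win G r
  · exact Or.inl hW
  have hiff : ∀ p, u p = 0 ↔ φ p = 0 := fun p =>
    ⟨fun hu => by_contra fun hφ => hW (win_of_axis h5 hG h hφ hu),
      fun hφ => by_contra fun hu => hW (win_of_center h5 hG h hu hφ)⟩
  exact Or.inr ⟨hiff, fun p p' hp hp' => by_contra fun hne =>
    hW (win_of_unequal h5 hG h (mt (hiff p).2 hp) (mt (hiff p').2 hp') hne)⟩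

include hG h5 in
theorem win_of_outside {u φ : ι → F} (h : Hom G r u φ) {l s : ι} (hlr : l ≠ r) (hul : u l = 0) (hφl : φ l = 0)
    (hus : u s ≠ 0) (hφs : φ s ≠ 0) (hc : u s * φ s ≠ 1) : Win G r := by
  have hsr : s ≠ r := fun e => hus (e ▸ h.2.1)
  have hsl : s ≠ l := fun e => hus (e ▸ hul)
  have h' := h.mono hG (σ := Equiv.swap s l) (d := 1) (Equiv.swap_apply_of_ne_of_ne hsr.symm hlr.symm) rfl (by simp)
  have ev : ∀ f : ι → F, f l = 0 → mvec (Equiv.swap s l) 1 f = f + Pi.single l (f s) - Pi.single s (f s) := by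
    intro f hf
    funext p
    by_cases hp : p = s
    · subst hp; simp [mvec, hsl, hf]
    by_cases hp' : p = l
    · subst hp'; simp [mvec, hsl.symm, hf]
    simp [mvec, Equiv.swap_apply_of_ne_of_ne hp hp', hp, hp']
  have ev' : mcov (Equiv.swap s l) 1 φ = φ + Pi.single l (φ s) - Pi.single s (φ s) := by
    rw [← ev φ hφl]; funext p; simp [mcov, mvec]
  rw [ev u hul, ev'] at h'
  set c := u s * φ s with hcdef
  set A := 1 - c with hA
  have hA0 : A ≠ 0 := sub_ne_zero.2 hc.symm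
  have hdot1 : φ ⬝ᵥ (u + Pi.single l (u s) - Pi.single s (u s)) = A := by
    rw [dotProduct_sub, dotProduct_add, dotProduct_single, dotProduct_single, h.1, hφl]; rw [hA, hcdef]; ring
  have hdot2 : (φ + Pi.single l (φ s) - Pi.single s (φ s)) ⬝ᵥ u = A := by
    rw [sub_dotProduct, add_dotProduct, single_dotProduct, single_dotProduct, h.1, hul]; rw [hA, hcdef]; ring
  obtain ⟨x, hx0, hx1, hroot⟩ : ∃ x : F, x ≠ 0 ∧ x ≠ 1 ∧ A ^ 2 * (x - 1) ^ 2 + x ≠ 0 := by
    obtain ⟨x₀, hx0, hx1, -, -⟩ := exists_avoid h5 1 1 1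
    by_cases h0 : A ^ 2 * (x₀ - 1) ^ 2 + x₀ = 0
    · obtain ⟨x, hy0, hy1, hy2, hy3⟩ := exists_avoid h5 1 x₀ ((2 * A ^ 2 - 1) / A ^ 2 - x₀)
      refine ⟨x, hy0, hy1, fun hy => ?_⟩
      have e : (x - x₀) * (A ^ 2 * (x + x₀) - (2 * A ^ 2 - 1)) = 0 := by linear_combination hy - h0
      rcases mul_eq_zero.1 e with e | e
      · exact hy2 (sub_eq_zero.1 e)
      · refine hy3 ?_
        field_simp
        linear_combination e
    · exact ⟨x₀, hx0, hx1, h0⟩
  have h2 := h.conjBy hG h' hx0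
  rw [hdot1, hdot2] at h2
  refine win_of_unequal h5 hG h2 (s := s) (k := l) ?_ ?_ ?_
  · simpa [hsl, hφs, hA0, sub_eq_zero] using hx1
  · simpa [hsl.symm, hφl] using hφs
  · simp [hsl, hsl.symm, hul, hφl]
    intro e
    apply hroot
    field_simp at e
    linear_combination -e

include hG h5 in
theorem win_or_shrink {u φ : ι → F} (h : Hom G r u φ) {c : F} {s i : ι} (hsi : s ≠ i)
    (hc : ∀ p, u p ≠ 0 → u p * φ p = c) (hus : u s ≠ 0) (hui : u i ≠ 0) (hφs : φ s ≠ 0) (hφi : φ i ≠ 0) :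
    Win G r ∨ ∃ u' φ', Hom G r u' φ' ∧ u' s = 0 ∧ φ' s = 0 ∧ (∀ p, p ≠ s → u p ≠ 0 → u' p ≠ 0) ∧ c ≠ 1 := by
  have hsr : s ≠ r := fun e => hus (e ▸ h.2.1)
  obtain ⟨μ, hμ0, hμ1, hμ2, -⟩ := exists_avoid h5 1 (-1) 1
  let d : ι → F := Function.update 1 s μ
  have hd : ∀ q, d q ≠ 0 := fun q => by by_cases hq : q = s <;> simp [d, hq, hμ0]
  have h' := h.mono hG (σ := 1) (d := d) rfl (by simp [d, hsr.symm]) hd
  have ev : mvec 1 d u = u + Pi.single s ((μ - 1) * u s) := by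
    funext p
    by_cases hp : p = s
    · subst hp; simp [mvec, d]; ring
    · simp [mvec, d, hp]
  have ev' : mcov 1 d φ = φ + Pi.single s ((μ⁻¹ - 1) * φ s) := by
    funext p
    by_cases hp : p = s
    · subst hp; simp [mcov, d]; ring
    · simp [mcov, d, hp]
  rw [ev, ev'] at h'
  set A := 1 + (μ - 1) * c with hA
  set B := 1 + (μ⁻¹ - 1) * c with hB
  have hdot1 : φ ⬝ᵥ (u + Pi.single s ((μ - 1) * u s)) = A := by
    rw [dotProduct_add, dotProduct_single, h.1, hA, ← hc s hus]; ring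
  have hdot2 : (φ + Pi.single s ((μ⁻¹ - 1) * φ s)) ⬝ᵥ u = B := by
    rw [add_dotProduct, single_dotProduct, h.1, hB, ← hc s hus]; ring
  have hAB : A + μ * B = 1 + μ := by rw [hA, hB]; field_simp; ring
  obtain ⟨x, hx0, hx1, hxr, hxD⟩ : ∃ x : F, x ≠ 0 ∧ x ≠ 1 ∧ 1 + (x - 1) * A ≠ 0 ∧ x * A + μ * B ≠ 0 := by
    by_cases hA0 : A = 0
    · obtain ⟨x, hx0, hx1, -, -⟩ := exists_avoid h5 1 1 1
      refine ⟨x, hx0, hx1, by simp [hA0], ?_⟩
      rw [hA0, zero_add] at hAB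
      rw [hA0, mul_zero, zero_add, hAB]
      exact fun e => hμ2 (by linear_combination e)
    · obtain ⟨x, hx0, hx1, hx2, hx3⟩ := exists_avoid h5 1 (1 - A⁻¹) (-(μ * B) / A)
      refine ⟨x, hx0, hx1, fun e => hx2 ?_, fun e => hx3 ?_⟩
      · field_simp
        linear_combination e
      · field_simp
        linear_combination e
  have h2 := h.conjBy hG h' hx0
  rw [hdot1, hdot2] at h2
  set u2 := u + Pi.single s ((μ - 1) * u s) + ((x - 1) * A) • u with hu2
  set φ2 := φ + Pi.single s ((μ⁻¹ - 1) * φ s) + ((x⁻¹ - 1) * B) • φ with hφ2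
  have u2p : ∀ p, p ≠ s → u2 p = u p * (1 + (x - 1) * A) := fun p hp => by simp [hu2, hp]; ring
  have φ2p : φ2 i = φ i * (1 + (x⁻¹ - 1) * B) := by simp [hφ2, hsi.symm]; ring
  have u2s : u2 s = u s * (μ + (x - 1) * A) := by simp [hu2]; ring
  have φ2s : φ2 s = φ s * (μ⁻¹ + (x⁻¹ - 1) * B) := by simp [hφ2]; ring
  have hkeep : ∀ p, p ≠ s → u p ≠ 0 → u2 p ≠ 0 := fun p hp h0 => by rw [u2p p hp]; exact mul_ne_zero h0 hxr
  by_cases hi : φ2 i = 0
  · exact Or.inl (win_of_center h5 hG h2 (hkeep i hsi.symm hui) hi)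
  by_cases hs : φ2 s = 0
  · by_cases hs' : u2 s = 0
    · refine Or.inr ⟨u2, φ2, h2, hs', hs, hkeep, fun hc1 => ?_⟩
      have e : μ + (x - 1) * A = x * μ := by rw [hA, hc1]; ring
      rw [u2s, e] at hs'
      exact mul_ne_zero hus (mul_ne_zero hx0 hμ0) hs'
    · exact Or.inl (win_of_center h5 hG h2 hs' hs)
  refine Or.inl (win_of_unequal h5 hG h2 hs hi ?_)
  rw [u2s, φ2s, u2p i hsi.symm, φ2p]
  intro e
  have hc0 : c ≠ 0 := hc s hus ▸ mul_ne_zero hus hφs
  have key : c * ((μ - 1) * (x - 1) * (x * A + μ * B)) = 0 := by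
    have h1 := hc s hus
    have h3 := hc i hui
    have e' : c * ((μ + (x - 1) * A) * (μ⁻¹ + (x⁻¹ - 1) * B) - (1 + (x - 1) * A) * (1 + (x⁻¹ - 1) * B)) = 0 := by
      linear_combination e - (μ + (x - 1) * A) * (μ⁻¹ + (x⁻¹ - 1) * B) * h1 + (1 + (x - 1) * A) * (1 + (x⁻¹ - 1) * B) * h3
    field_simp at e'
    linear_combination -e'
  exact mul_ne_zero hc0 (mul_ne_zero (mul_ne_zero (sub_ne_zero.2 hμ1) (sub_ne_zero.2 hx1)) hxD) key

include hG h5 in
theorem win_of_hom (hcard : 4 ≤ Fintype.card ι) {u φ : ι → F} (h : Hom G r u φ) {s i : ι} (hsi : s ≠ i)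
    (hus : u s ≠ 0) (hui : u i ≠ 0) : Win G r := by
  rcases win_or_balanced h5 hG h with hW | ⟨hiff, heq⟩
  · exact hW
  have hφ : ∀ p, u p ≠ 0 → φ p ≠ 0 := fun p hp => mt (hiff p).2 hp
  by_cases hout : u s * φ s ≠ 1 ∧ ∃ l, l ≠ r ∧ u l = 0
  · obtain ⟨hc, l, hlr, hl⟩ := hout
    exact win_of_outside h5 hG h hlr hl ((hiff l).1 hl) hus (hφ s hus) hc
  rcases win_or_shrink h5 hG h hsi (fun p hp => heq p s hp hus) hus hui (hφ s hus) (hφ i hui) with
    hW | ⟨u', φ', h', hs', hφs', hkeep, hc⟩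
  · exact hW
  push Not at hout
  have hfull := hout hc
  obtain ⟨j, hj⟩ := Finset.exists_mem_notMem_of_card_lt_card (s := {r, s, i}) (t := (Finset.univ : Finset ι))
    (lt_of_le_of_lt Finset.card_le_three (by rw [Finset.card_univ]; omega))
  simp only [Finset.mem_insert, Finset.mem_singleton, not_or, Finset.mem_univ, true_and] at hj
  have hui' := hkeep i hsi.symm hui
  have huj' := hkeep j hj.2.1 (hfull j hj.1)
  rcases win_or_balanced h5 hG h' with hW | ⟨hiff', heq'⟩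
  · exact hW
  have hsr : s ≠ r := fun e => hus (e ▸ h.2.1)
  by_cases hc' : u' i * φ' i = 1
  · rcases win_or_shrink h5 hG h' (Ne.symm hj.2.2) (fun p hp => (heq' p i hp hui').trans hc') hui' huj'
      (mt (hiff' i).2 hui') (mt (hiff' j).2 huj') with hW | ⟨-, -, -, -, -, -, hc1⟩
    · exact hW
    · exact absurd rfl hc1
  · exact win_of_outside h5 hG h' hsr hs' hφs' hui' (mt (hiff' i).2 hui') hc'

end CfsgLib.Classical.DecompMax
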