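import Cfsg.Prelude.Def_GeometricClasses
import Cfsg.Agent.Lib.Classical.DecompNonMax
import Cfsg.Agent.Lib.Classical.DecompMax.Blocks

/-!
# Stabilisers of decompositions are maximal in `SL`
-/

set_option autoImplicit false
set_option linter.unusedSectionVars false
set_option linter.unusedSimpArgs false

namespace CfsgLib.Classical.DecompMax

open Matrix Module

variable {F : Type*} [Field F] [Fintype F] {n t m : ℕ}

/-- Matrices in adapted coordinates. -/
noncomputable def coords (E : (Fin n → F) ≃ₗ[F] (Fin t × Fin m → F)) :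
    Matrix (Fin n) (Fin n) F ≃ₐ[F] Matrix (Fin t × Fin m) (Fin t × Fin m) F :=
  (Matrix.toLinAlgEquiv'.trans (E.conjAlgEquiv F)).trans LinearMap.toMatrixAlgEquiv'

theorem coords_mulVec (E : (Fin n → F) ≃ₗ[F] (Fin t × Fin m → F)) (A : Matrix (Fin n) (Fin n) F)
    (x : Fin t × Fin m → F) : coords E A *ᵥ x = E (A *ᵥ E.symm x) := by
  rw [← Matrix.toLinAlgEquiv'_apply (coords E A)]
  simp only [coords, AlgEquiv.trans_apply, Matrix.toLinAlgEquiv'_toMatrixAlgEquiv']
  simp [LinearEquiv.conjAlgEquiv_apply, Matrix.toLinAlgEquiv'_apply]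

theorem coords_det (E : (Fin n → F) ≃ₗ[F] (Fin t × Fin m → F)) (A : Matrix (Fin n) (Fin n) F) :
    (coords E A).det = A.det := by
  have h : coords E A = LinearMap.toMatrix'
      ((E : (Fin n → F) →ₗ[F] _) ∘ₗ Matrix.toLin' A ∘ₗ (E.symm : _ →ₗ[F] (Fin n → F))) := rfl
  rw [h, LinearMap.det_toMatrix', LinearMap.det_conj, LinearMap.det_toLin']

/-- An element of `GL` with a given matrix of determinant one. -/
noncomputable def glOfDet (A : Matrix (Fin n) (Fin n) F) (h : A.det = 1) : GL (Fin n) F :=
  GeneralLinearGroup.mkOfDetNeZero A (by rw [h]; exact one_ne_zero)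

theorem mem_sl {g : GL (Fin n) F} : g ∈ Cfsg.Geo.specialLinear (Fin n) F ↔ (g : Matrix (Fin n) (Fin n) F).det = 1 := by
  rw [Cfsg.Geo.specialLinear, MonoidHom.mem_ker, Units.ext_iff]
  rfl

theorem mem_stab_iff_blk {D : Fin t → Submodule F (Fin n → F)} (hD : Cfsg.Geo.IsMDecomposition m D)
    (E : (Fin n → F) ≃ₗ[F] (Fin t × Fin m → F))
    (hE1 : ∀ i a, E.symm (Pi.single (i, a) 1) ∈ D i) (hE2 : ∀ i, ∀ x ∈ D i, ∀ j a, j ≠ i → E x (j, a) = 0)
    (g : GL (Fin n) F) : g ∈ Cfsg.Geo.decompositionStabilizer D ↔ Blk (coords E (g : Matrix (Fin n) (Fin n) F)) := by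
  classical
  have col : ∀ p q, coords E (g : Matrix (Fin n) (Fin n) F) p q =
      E ((g : Matrix (Fin n) (Fin n) F) *ᵥ E.symm (Pi.single q 1)) p := fun p q => by
    rw [← coords_mulVec]; simp
  have hmem : ∀ i x, (∀ j a, j ≠ i → E x (j, a) = 0) → x ∈ D i := fun i x hx => by
    have e : x = ∑ a, E x (i, a) • E.symm (Pi.single (i, a) 1) := by
      apply E.injective
      simp only [map_sum, map_smul, LinearEquiv.apply_symm_apply]
      funext p
      rw [Finset.sum_apply]
      by_cases hp : p.1 = i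
      · obtain ⟨j, a⟩ := p; subst hp
        simp [Pi.single_apply]
      · rw [hx p.1 p.2 hp]
        refine (Finset.sum_eq_zero fun a _ => ?_).symm
        simp [Pi.single_eq_of_ne (fun e : p = (i, a) => hp (congrArg Prod.fst e))]
    rw [e]
    exact Submodule.sum_mem _ fun a _ => Submodule.smul_mem _ _ (hE1 i a)
  constructor
  · rintro ⟨σ, hσ⟩ p q p' q' hp hp' hqq
    have key : ∀ p q, coords E (g : Matrix (Fin n) (Fin n) F) p q ≠ 0 → p.1 = σ q.1 := fun p q hpq => by
      by_contra hne
      refine hpq ?_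
      rw [col]
      exact hE2 (σ q.1) _ (by rw [← hσ]; exact ⟨_, hE1 q.1 q.2, Matrix.toLin'_apply _ _⟩) p.1 p.2 hne
    rw [key p q hp, key p' q' hp', hqq]
  · intro h
    set A := coords E (g : Matrix (Fin n) (Fin n) F)
    set B := coords E ((g⁻¹ : GL (Fin n) F) : Matrix (Fin n) (Fin n) F)
    have hAB : A * B = 1 := by rw [← map_mul, ← Units.val_mul, mul_inv_cancel, Units.val_one, map_one]
    have hBA : B * A = 1 := by rw [← map_mul, ← Units.val_mul, inv_mul_cancel, Units.val_one, map_one]
    let a₀ : Fin m := ⟨0, hD.pos⟩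
    choose f hf using fun i : Fin t => exists_ne_zero_col hBA (i, a₀)
    have hblock : ∀ p q, A p q ≠ 0 → p.1 = (f q.1).1 := fun p q hpq => h p q (f q.1) (q.1, a₀) hpq (hf q.1) rfl
    have hsur : Function.Surjective fun i => (f i).1 := fun j => by
      obtain ⟨q, hq⟩ := exists_ne_zero_row hAB (j, a₀)
      exact ⟨q.1, (hblock _ q hq).symm⟩
    have hbij : Function.Bijective fun i => (f i).1 := ⟨Finite.injective_iff_surjective.2 hsur, hsur⟩
    refine ⟨Equiv.ofBijective _ hbij, fun i => ?_⟩
    apply Submodule.eq_of_le_of_finrank_eq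
    · rintro _ ⟨x, hx, rfl⟩
      refine hmem _ _ fun j a hj => ?_
      rw [Matrix.toLin'_apply]
      have e : E ((g : Matrix (Fin n) (Fin n) F) *ᵥ x) = A *ᵥ E x := by
        rw [coords_mulVec, LinearEquiv.symm_apply_apply]
      rw [e]
      simp only [mulVec, dotProduct]
      refine Finset.sum_eq_zero fun q _ => ?_
      by_cases hq : q.1 = i
      · have : A (j, a) q = 0 := by_contra fun h' => hj (by simpa [hq] using hblock (j, a) q h')
        rw [this, zero_mul]
      · rw [hE2 i x hx q.1 q.2 hq, mul_zero]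
    · have hinj : Function.Injective (Matrix.toLin' (g : Matrix (Fin n) (Fin n) F)) := fun x y h => by
        have := congrArg (fun z => ((g⁻¹ : GL (Fin n) F) : Matrix (Fin n) (Fin n) F) *ᵥ z) h
        simpa [Matrix.mulVec_mulVec, ← Units.val_mul] using this
      rw [(Submodule.equivMapOfInjective _ hinj (D i)).finrank_eq.symm, hD.finrank_eq, hD.finrank_eq]

theorem isMaximalIn (hn : 6 ≤ n) {D : Fin t → Submodule F (Fin n → F)} (hD : Cfsg.Geo.IsMDecomposition m D)
    (h1 : ¬ (m = 1 ∧ Fintype.card F ≤ 4)) (h2 : ¬ (m = 2 ∧ Fintype.card F = 2)) :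
    Cfsg.Geo.IsMaximalIn (Cfsg.Geo.specialLinear (Fin n) F)
      (Cfsg.Geo.decompositionStabilizer D ⊓ Cfsg.Geo.specialLinear (Fin n) F) := by
  classical
  obtain ⟨E, hE1, hE2⟩ := CfsgLib.Classical.DecompNonMax.exists_adapted hD
  have hnm : Fintype.card (Fin t × Fin m) = n := by
    have := E.finrank_eq
    simp only [Module.finrank_pi] at this
    simpa using this.symm
  have ht := hD.two_le
  have hm := hD.pos
  refine ⟨lt_of_le_not_ge inf_le_right fun hle => ?_, fun M hHM hMK => ?_⟩
  · let p : Fin t × Fin m := (⟨0, by omega⟩, ⟨0, hm⟩)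
    let q : Fin t × Fin m := (⟨1, by omega⟩, ⟨0, hm⟩)
    have hpq : p.1 ≠ q.1 := by simp [p, q, Fin.ext_iff]
    have hne : p ≠ q := fun e => hpq (congrArg Prod.fst e)
    set A := (coords E).symm (transvection p q (1 : F))
    have hA : A.det = 1 := by
      rw [← coords_det E, AlgEquiv.apply_symm_apply, det_transvection_of_ne _ _ hne]
    have hb := (mem_stab_iff_blk hD E hE1 hE2 (glOfDet A hA)).1 (hle (mem_sl.2 hA)).1
    have e : coords E ((glOfDet A hA : GL (Fin n) F) : Matrix (Fin n) (Fin n) F) = transvection p q 1 :=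
      (coords E).apply_symm_apply _
    rw [e] at hb
    exact hpq (hb p q q q (by simp [transvection, hne]) (by simp [transvection, hne]) rfl)
  · set S : Set (Matrix (Fin t × Fin m) (Fin t × Fin m) F) :=
      {X | ∃ g ∈ M, coords E (g : Matrix (Fin n) (Fin n) F) = X}
    have hS : BlkOver S :=
      { closed :=
          { mul := by
              rintro X Y ⟨g, hg, rfl⟩ ⟨h, hh, rfl⟩
              exact ⟨g * h, M.mul_mem hg hh, by rw [Units.val_mul, map_mul]⟩
            inv := by
              rintro X ⟨g, hg, rfl⟩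
              refine ⟨_, ⟨g⁻¹, M.inv_mem hg, rfl⟩, ?_, ?_⟩ <;> rw [← map_mul, ← Units.val_mul] <;> simp }
        det_eq := by
          rintro X ⟨g, hg, rfl⟩
          rw [coords_det]; exact mem_sl.1 (hMK hg)
        blk_mem := fun {X} hX hb => by
          have hA : ((coords E).symm X).det = 1 := by rw [← coords_det E, AlgEquiv.apply_symm_apply, hX]
          have e : coords E ((glOfDet _ hA : GL (Fin n) F) : Matrix (Fin n) (Fin n) F) = X :=
            (coords E).apply_symm_apply _
          exact ⟨glOfDet _ hA, hHM ⟨(mem_stab_iff_blk hD E hE1 hE2 _).2 (e.symm ▸ hb), mem_sl.2 hA⟩, e⟩ }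
    by_cases hMH : M ≤ Cfsg.Geo.decompositionStabilizer D ⊓ Cfsg.Geo.specialLinear (Fin n) F
    · exact Or.inl (le_antisymm hMH hHM)
    · obtain ⟨g, hg, hgH⟩ := SetLike.not_le_iff_exists.1 hMH
      have hnb : ¬ Blk (coords E (g : Matrix (Fin n) (Fin n) F)) := fun h =>
        hgH ⟨(mem_stab_iff_blk hD E hE1 hE2 g).2 h, hMK hg⟩
      have hcross : HasCross S := by
        rcases Nat.lt_or_ge m 2 with hm2 | hm2
        · obtain rfl : m = 1 := by omega
          exact hasCross_of_lines (by omega) (by omega) hS ⟨g, hg, rfl⟩ hnb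
        · haveI : Nontrivial (Fin m) := Fin.nontrivial_iff_two_le.2 hm2
          refine hasCross_of_not_blk hS (fun hc => ?_) ⟨g, hg, rfl⟩ hnb
          rw [Fintype.card_fin] at hc ⊢
          obtain rfl : m = 2 := by omega
          rw [Fintype.card_prod, Fintype.card_fin, Fintype.card_fin] at hnm
          refine ⟨?_, by omega⟩
          have h3 : 2 < Fintype.card F := by
            have := Fintype.one_lt_card (α := F)
            omega
          obtain ⟨l, -, hl⟩ := Finset.exists_mem_notMem_of_card_lt_card (s := ({0, 1} : Finset F)) (t := Finset.univ)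
            (Finset.card_le_two.trans_lt (by rw [Finset.card_univ]; exact h3))
          simp only [Finset.mem_insert, Finset.mem_singleton, not_or] at hl
          exact ⟨l, hl.1, hl.2⟩
      refine Or.inr (le_antisymm hMK fun x hx => ?_)
      obtain ⟨y, hy, e⟩ := all_of_hasCross hS (by omega) hcross
        (A := coords E (x : Matrix (Fin n) (Fin n) F)) (by rw [coords_det]; exact mem_sl.1 hx)
      rwa [Units.ext ((coords E).injective e) ] at hy

end CfsgLib.Classical.DecompMax
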