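import Cfsg.Agent.Lib.Classical.DecompMax.Homology
import Mathlib.GroupTheory.SpecificGroups.Alternating.Simple
import Mathlib.FieldTheory.Finite.Basic

/-!
# Overgroups of the monomial group of determinant one contain a transvection
-/

set_option autoImplicit false
set_option linter.unusedSectionVars false
set_option linter.unusedSimpArgs false

namespace CfsgLib.Classical.DecompMax

open Matrix

variable {ι : Type*} [Fintype ι] [DecidableEq ι] {F : Type*} [Field F]

/-- A group of matrices of determinant one containing the monomial ones. -/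
structure MonOver (S : Set (Matrix ι ι F)) : Prop where
  closed : Closed S
  det_eq : ∀ {A}, A ∈ S → A.det = 1
  mon_mem : ∀ (σ : Equiv.Perm ι) (d : ι → F), (mon σ d).det = 1 → mon σ d ∈ S

theorem MonOver.transpose {S : Set (Matrix ι ι F)} (h : MonOver S) : MonOver {A | Aᵀ ∈ S} where
  closed := h.closed.transpose
  det_eq {A} hA := by rw [← det_transpose]; exact h.det_eq hA
  mon_mem σ d hd := by
    show (mon σ d)ᵀ ∈ S
    rw [mon_transpose]
    exact h.mon_mem _ _ (by rw [← mon_transpose, det_transpose, hd])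

/-- An elementary transvection lies in the set. -/
def HasTv (S : Set (Matrix ι ι F)) : Prop := ∃ (s t : ι) (c : F), s ≠ t ∧ c ≠ 0 ∧ transvection s t c ∈ S

theorem hasTv_of_transpose {S : Set (Matrix ι ι F)} (h : HasTv {A | Aᵀ ∈ S}) : HasTv S := by
  obtain ⟨s, t, c, hst, hc, hm⟩ := h
  exact ⟨t, s, c, hst.symm, hc, transvection_transpose s t c ▸ hm⟩

theorem mul_mon_apply (A : Matrix ι ι F) (σ : Equiv.Perm ι) (d : ι → F) (p q : ι) :
    (A * mon σ d) p q = A p (σ q) * d q := by
  simp only [mul_apply, mon_apply]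
  rw [Finset.sum_eq_single (σ q) (fun b _ hb => by rw [if_neg hb, mul_zero]) (by simp), if_pos rfl]

theorem IsMon.mul_mon {A : Matrix ι ι F} (h : IsMon A) (σ : Equiv.Perm ι) (d : ι → F) : IsMon (A * mon σ d) := by
  intro p p' q hp hp'
  rw [mul_mon_apply] at hp hp'
  exact h p p' _ (left_ne_zero_of_mul hp) (left_ne_zero_of_mul hp')

theorem IsMon.of_inverse {A B : Matrix ι ι F} (h : IsMon A) (hAB : A * B = 1) (hBA : B * A = 1) : IsMon B := by
  obtain ⟨σ, d, hd, rfl⟩ := h.exists_eq hAB hBA
  have : B = mon σ.symm (fun p => (d (σ.symm p))⁻¹) :=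
    calc B = B * (mon σ d * mon σ.symm (fun p => (d (σ.symm p))⁻¹)) := by rw [mon_mul_inv σ hd, mul_one]
      _ = _ := by rw [← mul_assoc, hBA, one_mul]
  rw [this]
  exact isMon_mon _ _

/-- The column `r` is supported at `r` only. -/
def AxisCol (r : ι) (y : Matrix ι ι F) : Prop := ∀ i, i ≠ r → y i r = 0

/-- Forget the row and column `r`. -/
def proj (r : ι) (y : Matrix ι ι F) : Matrix ι ι F :=
  Matrix.of fun i j => if i = r ∨ j = r then (1 : Matrix ι ι F) i j else y i j

theorem proj_apply (r : ι) (y : Matrix ι ι F) (i j : ι) :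
    proj r y i j = if i = r ∨ j = r then (1 : Matrix ι ι F) i j else y i j := rfl

theorem proj_one (r : ι) : proj r (1 : Matrix ι ι F) = 1 := by
  ext i j; simp [proj_apply]

theorem AxisCol.mul {r : ι} {y z : Matrix ι ι F} (hy : AxisCol r y) (hz : AxisCol r z) : AxisCol r (y * z) := by
  intro i hi
  rw [mul_apply, Finset.sum_eq_single r (fun b _ hb => by rw [hz b hb, mul_zero]) (by simp), hy i hi, zero_mul]

theorem proj_mul {r : ι} {y z : Matrix ι ι F} (hy : AxisCol r y) : proj r (y * z) = proj r y * proj r z := by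
  ext i j
  rw [mul_apply]
  by_cases hi : i = r
  · subst hi
    rw [Finset.sum_eq_single i (fun b _ hb => by simp [proj_apply, Matrix.one_apply_ne hb.symm]) (by simp)]
    simp [proj_apply]
  by_cases hj : j = r
  · subst hj
    rw [Finset.sum_eq_single j (fun b _ hb => by simp [proj_apply, Matrix.one_apply_ne hb]) (by simp)]
    simp [proj_apply]
  rw [proj_apply, if_neg (by simp [hi, hj]), mul_apply]
  refine Finset.sum_congr rfl fun b _ => ?_
  by_cases hb : b = r
  · subst hb; simp [proj_apply, hy i hi, Matrix.one_apply_ne hi]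
  · simp [proj_apply, hi, hj, hb]

theorem AxisCol.inverse {r : ι} {y z : Matrix ι ι F} (hy : AxisCol r y) (hzy : z * y = 1) : AxisCol r z := by
  intro i hi
  have key : ∀ k, (z * y) k r = z k r * y r r := fun k => by
    rw [mul_apply, Finset.sum_eq_single r (fun b _ hb => by rw [hy b hb, mul_zero]) (by simp)]
  have hr : y r r ≠ 0 := fun h0 => by
    have := key r
    rw [hzy, h0, mul_zero, Matrix.one_apply_eq] at this
    exact one_ne_zero this
  have := key i
  rw [hzy, Matrix.one_apply_ne hi] at this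
  exact (mul_eq_zero.1 this.symm).resolve_right hr

theorem axisCol_mon {r : ι} {σ : Equiv.Perm ι} {d : ι → F} (hσ : σ r = r) : AxisCol r (mon σ d) := fun i hi => by
  simp [mon_apply, hσ, hi]

theorem proj_mon {r : ι} {σ : Equiv.Perm ι} {d : ι → F} (hσ : σ r = r) (hd : d r = 1) (x : F) :
    proj r (mon σ (Function.update d r x)) = mon σ d := by
  ext i j
  by_cases hj : j = r
  · subst hj; by_cases hi : i = j <;> simp [proj_apply, mon_apply, hσ, hd, hi]
  by_cases hi : i = r
  · subst hi
    have : ¬ i = σ j := fun e => hj (σ.injective (e.symm.trans hσ.symm))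
    simp [proj_apply, mon_apply, hj, this, Ne.symm hj]
  simp [proj_apply, mon_apply, hi, hj]

theorem eq_tv_of_proj {r : ι} {z : Matrix ι ι F} (hz : AxisCol r z) (hp : proj r z = 1) (hdet : z.det = 1) :
    ∃ σ : ι → F, σ r = 0 ∧ z = tv (Pi.single r 1) σ := by
  let σ : ι → F := fun j => z r j - (1 : Matrix ι ι F) r j
  have e : z = tv (Pi.single r 1) σ := by
    ext i j
    rw [tv_apply]
    by_cases hi : i = r
    · subst hi; simp [σ]
    simp only [Pi.single_apply, if_neg hi, zero_mul, add_zero]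
    by_cases hj : j = r
    · subst hj; rw [hz i hi, Matrix.one_apply_ne hi]
    · have := congrFun (congrFun hp i) j
      simpa [proj_apply, hi, hj] using this
  refine ⟨σ, ?_, e⟩
  rw [e, det_tv, dotProduct_single, mul_one] at hdet
  simpa using hdet

/-- The images in the axis stabiliser. -/
def axisImage (S : Set (Matrix ι ι F)) (r : ι) : Set (Matrix ι ι F) :=
  {A | ∃ y ∈ S, AxisCol r y ∧ proj r y = A}

variable {S : Set (Matrix ι ι F)} (hS : MonOver S)

include hS in
theorem MonOver.one_mem : (1 : Matrix ι ι F) ∈ S := by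
  have := hS.mon_mem 1 1 (by rw [mon_one, det_one])
  rwa [mon_one] at this

include hS in
theorem MonOver.diag_mem {d : ι → F} (hd : ∏ q, d q = 1) : mon (1 : Equiv.Perm ι) d ∈ S :=
  hS.mon_mem 1 d (by rw [det_mon, hd, Equiv.Perm.sign_one]; simp)

include hS in
theorem MonOver.lift_mon {r : ι} {σ : Equiv.Perm ι} {d : ι → F} (hσ : σ r = r) (hd : d r = 1) (hd0 : ∀ q, d q ≠ 0) :
    ∃ x, mon σ (Function.update d r x) ∈ S ∧ AxisCol r (mon σ (Function.update d r x)) ∧
      proj r (mon σ (Function.update d r x)) = mon σ d := by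
  set P := ((σ.sign : F) * ∏ q, d q) with hP
  have hP0 : P ≠ 0 := mul_ne_zero (by rcases Int.units_eq_one_or σ.sign with h | h <;> simp [h])
    (Finset.prod_ne_zero_iff.2 fun q _ => hd0 q)
  refine ⟨P⁻¹, hS.mon_mem _ _ ?_, axisCol_mon hσ, proj_mon hσ hd _⟩
  have e : ∏ q, Function.update d r P⁻¹ q = P⁻¹ * ∏ q, d q := by
    rw [Finset.prod_update_of_mem (Finset.mem_univ r),
      ← Finset.mul_prod_erase Finset.univ d (Finset.mem_univ r), hd, one_mul, Finset.sdiff_singleton_eq_erase]
  rw [det_mon, e, mul_left_comm, ← hP, inv_mul_cancel₀ hP0]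

include hS in
theorem MonOver.axisImage (r : ι) : AxisGrp r (DecompMax.axisImage S r) where
  closed :=
    { mul := by
        rintro A B ⟨y, hy, hcy, rfl⟩ ⟨z, hz, hcz, rfl⟩
        exact ⟨y * z, hS.closed.mul hy hz, hcy.mul hcz, proj_mul hcy⟩
      inv := by
        rintro A ⟨y, hy, hcy, rfl⟩
        obtain ⟨z, hz, hyz, hzy⟩ := hS.closed.inv hy
        refine ⟨proj r z, ⟨z, hz, hcy.inverse hzy, rfl⟩, ?_, ?_⟩
        · rw [← proj_mul hcy, hyz, proj_one]
        · rw [← proj_mul (hcy.inverse hzy), hzy, proj_one] }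
  mon_mem σ d hσ hd hd0 := by
    obtain ⟨x, hm, hc, hp⟩ := hS.lift_mon hσ hd hd0
    exact ⟨_, hm, hc, hp⟩

variable [Fintype F] (h5 : 5 ≤ Fintype.card F) (hn : 6 ≤ Fintype.card ι)

include hn in
theorem exists_notMem (T : Finset ι) (hT : T.card < 6) : ∃ l, l ∉ T := by
  obtain ⟨l, -, hl⟩ := Finset.exists_mem_notMem_of_card_lt_card (s := T) (t := Finset.univ)
    (by rw [Finset.card_univ]; omega)
  exact ⟨l, hl⟩

include hS in
theorem tv_axis_scale {r : ι} {σ : ι → F} (hσr : σ r = 0) {d : ι → F} (hd : ∏ q, d q = 1) (hd0 : ∀ q, d q ≠ 0)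
    (hdr : d r = 1) (h : tv (Pi.single r 1) σ ∈ S) :
    tv (Pi.single r 1) (fun p => σ p / d p - σ p) ∈ S := by
  have h1 := hS.closed.conj (hS.diag_mem hd) (mon_mul_inv 1 hd0) h
  rw [mon_conj_tv 1 hd0] at h1
  have ev : mvec 1 d (Pi.single r (1 : F)) = Pi.single r 1 := by
    funext p
    by_cases hp : p = r
    · subst hp; simp [mvec, hdr]
    · simp [mvec, hp]
  rw [ev] at h1
  have h2 := hS.closed.inv_mem h (tv_mul_neg _ σ (by rw [dotProduct_single, hσr, zero_mul]))
  rw [← neg_one_smul F (Pi.single r (1 : F) : ι → F), tv_smul, neg_one_smul] at h2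
  have h3 := hS.closed.mul h1 h2
  rw [tv_mul_same_left _ _ _ (by rw [dotProduct_single]; simp [mcov, hσr])] at h3
  have e : (fun p => σ p / d p - σ p) = mcov 1 d σ + -σ := by
    funext p; simp [mcov, sub_eq_add_neg]
  rwa [e]

include hS h5 hn in
theorem hasTv_of_row {r : ι} {σ : ι → F} (hσr : σ r = 0) (hσ : σ ≠ 0) (h : tv (Pi.single r 1) σ ∈ S) : HasTv S := by
  obtain ⟨k, hk⟩ := Function.ne_iff.1 hσ
  simp only [Pi.zero_apply] at hk
  have hkr : k ≠ r := fun e => hk (e ▸ hσr)
  obtain ⟨μ, hμ0, hμ1, -, -⟩ := exists_avoid h5 1 1 1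
  have hμ : μ⁻¹ - 1 ≠ 0 := sub_ne_zero.2 (inv_eq_one.not.2 hμ1)
  obtain ⟨l, hl⟩ := exists_notMem hn ({r, k} : Finset ι) (Finset.card_le_two.trans_lt (by norm_num))
  simp only [Finset.mem_insert, Finset.mem_singleton, not_or] at hl
  have h1 := tv_axis_scale hS hσr (prod_sc (Ne.symm hl.2) hμ0) (sc_ne_zero hμ0)
    (by simp [sc, hkr.symm, Ne.symm hl.1]) h
  obtain ⟨l', hl'⟩ := exists_notMem hn ({r, k, l} : Finset ι) (Finset.card_le_three.trans_lt (by norm_num))
  simp only [Finset.mem_insert, Finset.mem_singleton, not_or] at hl'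
  have h2 := tv_axis_scale hS (by simp [hσr]) (prod_sc (Ne.symm hl'.2.1) hμ0) (sc_ne_zero hμ0)
    (by simp [sc, hkr.symm, Ne.symm hl'.1]) h1
  refine ⟨r, k, (μ⁻¹ - 1) * (μ⁻¹ - 1) * σ k, hkr.symm, mul_ne_zero (mul_ne_zero hμ hμ) hk, ?_⟩
  convert h2 using 1
  rw [transvection_eq_tv]
  ext i j
  simp only [tv_apply, Pi.single_apply]
  by_cases hi : i = r
  swap
  · simp [hi]
  by_cases hj : j = k
  · subst hj; simp [hi, sc]; ring
  by_cases hj' : j = l
  · subst hj'; simp [hi, sc, hj, Ne.symm hl'.2.2]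
  by_cases hj'' : j = l'
  · subst hj''; simp [hi, sc, hj, hj']
  simp [hi, sc, hj, hj', hj'']

include hS h5 hn in
theorem hasTv_of_win {r : ι} (h : Win (DecompMax.axisImage S r) r) : HasTv S := by
  obtain ⟨s, t, c, hsr, htr, hst, hc, x, hx, hcx, hpx⟩ := h
  set X := transvection s t c with hX
  set X' := transvection s t (-c) with hX'
  have hXX : X * X' = 1 := by rw [hX, hX', transvection_mul_transvection_same _ _ hst, add_neg_cancel, transvection_zero]
  have hXX' : X' * X = 1 := by rw [hX, hX', transvection_mul_transvection_same _ _ hst, neg_add_cancel, transvection_zero]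
  have hcX : AxisCol r X' := fun i hi => by simp [hX', transvection, Matrix.one_apply_ne hi, htr]
  have hpX : proj r X = X := by
    ext i j
    by_cases hi : i = r
    · subst hi; simp [proj_apply, hX, transvection, hsr]
    by_cases hj : j = r
    · subst hj; simp [proj_apply, hX, transvection, htr]
    simp [proj_apply, hi, hj]
  have hpX' : proj r X' = X' := by
    ext i j
    by_cases hi : i = r
    · subst hi; simp [proj_apply, hX', transvection, hsr]
    by_cases hj : j = r
    · subst hj; simp [proj_apply, hX', transvection, htr]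
    simp [proj_apply, hi, hj]
  obtain ⟨σ, hσr, hσ⟩ := eq_tv_of_proj (hcx.mul hcX) (by rw [proj_mul hcx, hpx, hpX', hXX])
    (by rw [det_mul, hS.det_eq hx, hX', det_transvection_of_ne _ _ hst, mul_one])
  have hxe : x = tv (Pi.single r 1) σ * X := by rw [← hσ, mul_assoc, hXX', mul_one]
  by_cases hσ0 : σ = 0
  · refine ⟨s, t, c, hst, hc, ?_⟩
    have e : tv (Pi.single r (1 : F)) (0 : ι → F) = 1 := by ext i j; simp [tv_apply]
    rw [hσ0, e, one_mul] at hxe
    show X ∈ S
    rw [← hxe]; exact hx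
  obtain ⟨k, hk⟩ := Function.ne_iff.1 hσ0
  simp only [Pi.zero_apply] at hk
  have hkr : k ≠ r := fun e => hk (e ▸ hσr)
  obtain ⟨μ, hμ0, hμ1, -, -⟩ := exists_avoid h5 1 1 1
  obtain ⟨d, hd, hd0, hdr, hdst, hdk⟩ : ∃ d : ι → F, ∏ q, d q = 1 ∧ (∀ q, d q ≠ 0) ∧ d r = 1 ∧ d s = d t ∧ d k ≠ 1 := by
    obtain ⟨l, hl⟩ := exists_notMem hn ({r, s, t, k} : Finset ι) (Finset.card_le_four.trans_lt (by norm_num))
    simp only [Finset.mem_insert, Finset.mem_singleton, not_or] at hl
    obtain ⟨hlr, hls, hlt, hlk⟩ := hl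
    by_cases hkst : k = s ∨ k = t
    · refine ⟨fun q => if q = s ∨ q = t then μ else if q = l then (μ * μ)⁻¹ else 1, ?_, fun q => ?_, ?_, ?_, ?_⟩
      · rw [← Finset.prod_subset (Finset.subset_univ ({s, t, l} : Finset ι)) (fun x _ hx => by
          simp only [Finset.mem_insert, Finset.mem_singleton, not_or] at hx; simp [hx.1, hx.2.1, hx.2.2]),
          Finset.prod_insert (by simp [hst, Ne.symm hls]), Finset.prod_insert (by simp [Ne.symm hlt]),
          Finset.prod_singleton]
        simp [hls, hlt]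
        field_simp
      · dsimp only; split_ifs <;> simp [hμ0]
      · simp [hsr.symm, htr.symm, Ne.symm hlr]
      · simp
      · simp [hkst, hμ1]
    · push Not at hkst
      refine ⟨sc k l μ, prod_sc (Ne.symm hlk) hμ0, sc_ne_zero hμ0, by simp [sc, hkr.symm, Ne.symm hlr], ?_,
        by simp [sc, hμ1]⟩
      simp [sc, Ne.symm hkst.1, Ne.symm hkst.2, Ne.symm hls, Ne.symm hlt]
  set D := mon (1 : Equiv.Perm ι) d
  set D' := mon (1 : Equiv.Perm ι).symm (fun p => (d ((1 : Equiv.Perm ι).symm p))⁻¹)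
  have hDD : D * D' = 1 := mon_mul_inv 1 hd0
  have hDD' : D' * D = 1 := mon_inv_mul 1 hd0
  have hDX : D * X * D' = X := by
    rw [hX, transvection_eq_tv, mon_conj_tv 1 hd0]
    ext i j
    simp only [tv_apply, mvec, mcov, one_symm_apply, Pi.single_apply]
    by_cases hi : i = s <;> by_cases hj : j = t <;> simp [hi, hj, hst, hst.symm]
    rw [hdst]; field_simp [hd0 t]
  obtain ⟨x', hx', hxx', -⟩ := hS.closed.inv hx
  have hmem := hS.closed.mul (hS.closed.conj (hS.diag_mem hd) hDD hx) hx'
  have hr0 : σ ⬝ᵥ Pi.single r 1 = 0 := by rw [dotProduct_single, hσr, zero_mul]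
  have hxi : x' = X' * tv (-Pi.single r 1) σ := by
    have e : x * (X' * tv (-Pi.single r 1) σ) = 1 := by
      rw [hxe, ← mul_assoc, mul_assoc (tv _ _), hXX, mul_one, tv_mul_neg _ _ hr0]
    obtain ⟨x'', -, -, h''⟩ := hS.closed.inv hx
    calc x' = (x'' * x) * x' := by rw [h'', one_mul]
      _ = x'' := by rw [mul_assoc, hxx', mul_one]
      _ = x'' * (x * (X' * tv (-Pi.single r 1) σ)) := by rw [e, mul_one]
      _ = _ := by rw [← mul_assoc, h'', one_mul]
  have ecalc : D * x * D' * x' = tv (Pi.single r 1) (mcov 1 d σ + -σ) := by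
    have e1 : D * x * D' = tv (mvec 1 d (Pi.single r 1)) (mcov 1 d σ) * X := by
      have r1 : D * tv (Pi.single r 1) σ * D' = tv (mvec 1 d (Pi.single r 1)) (mcov 1 d σ) := mon_conj_tv 1 hd0 _ _
      calc D * x * D' = (D * tv (Pi.single r 1) σ * D') * (D * X * D') := by
            rw [hxe]; simp only [mul_assoc]; rw [← mul_assoc D' D, hDD', one_mul]
        _ = _ := by rw [r1, hDX]
    have ev : mvec 1 d (Pi.single r (1 : F)) = Pi.single r 1 := by
      funext p
      by_cases hp : p = r
      · subst hp; simp [mvec, hdr]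
      · simp [mvec, hp]
    rw [e1, hxi, ev, mul_assoc, ← mul_assoc X X', hXX, one_mul,
      ← neg_one_smul F (Pi.single r (1 : F) : ι → F), tv_smul, neg_one_smul,
      tv_mul_same_left _ _ _ (by rw [dotProduct_single]; simp [mcov, hσr])]
  rw [ecalc] at hmem
  refine hasTv_of_row hS h5 hn (by simp [mcov, hσr]) (fun e => hdk ?_) hmem
  have := congrFun e k
  simp only [Pi.add_apply, Pi.neg_apply, mcov, one_symm_apply, Pi.zero_apply] at this
  field_simp [hd0 k] at this
  have h' : σ k * (1 - d k) = 0 := by linear_combination this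
  exact (sub_eq_zero.1 ((mul_eq_zero.1 h').resolve_left hk)).symm

include hS h5 hn in
/-- The machine: a non-monomial element fixing an axis. -/
theorem hasTv_of_axisCol {r : ι} {y : Matrix ι ι F} (hy : y ∈ S) (hcy : AxisCol r y) (hmon : ¬ IsMon y) : HasTv S := by
  obtain ⟨z, hz, hyz, hzy⟩ := hS.closed.inv hy
  have hG := hS.axisImage r
  set A := proj r y
  set B := proj r z
  have hAB : A * B = 1 := by rw [← proj_mul hcy, hyz, proj_one]
  have hBA : B * A = 1 := by rw [← proj_mul (hcy.inverse hzy), hzy, proj_one]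
  have hAG : A ∈ DecompMax.axisImage S r := ⟨y, hy, hcy, rfl⟩
  by_cases hA : IsMon A
  · obtain ⟨σ, d, hd, hAe⟩ := hA.exists_eq hAB hBA
    have hAr : A r r = 1 := by simp [A, proj_apply]
    have hσ : σ r = r := by
      by_contra hne
      rw [hAe, mon_apply, if_neg (Ne.symm hne)] at hAr
      exact zero_ne_one hAr
    have hdr : d r = 1 := by rwa [hAe, mon_apply, if_pos hσ.symm] at hAr
    have hs : σ.symm r = r := by rw [Equiv.symm_apply_eq, hσ]
    obtain ⟨x, hw, hcw, hpw⟩ := hS.lift_mon (σ := σ.symm) (d := fun p => (d (σ.symm p))⁻¹) hs (by simp [hs, hdr])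
      (fun q => inv_ne_zero (hd _))
    set w := mon σ.symm (Function.update (fun p => (d (σ.symm p))⁻¹) r x)
    have hp1 : proj r (y * w) = 1 := by rw [proj_mul hcy, hpw, show proj r y = mon σ d from hAe, mon_mul_inv σ hd]
    obtain ⟨τ, hτr, hτ⟩ := eq_tv_of_proj (hcy.mul hcw) hp1 (hS.det_eq (hS.closed.mul hy hw))
    refine hasTv_of_row hS h5 hn hτr (fun h0 => hmon ?_) (hτ ▸ hS.closed.mul hy hw)
    have hyw : y * w = 1 := by rw [hτ, h0]; ext i j; simp [tv_apply]
    exact (isMon_mon _ _).of_inverse (mul_eq_one_comm.1 hyw) hyw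
  obtain ⟨p, p', q, hp, hp', hpp⟩ : ∃ p p' q, A p q ≠ 0 ∧ A p' q ≠ 0 ∧ p ≠ p' := by
    unfold IsMon at hA; push Not at hA; exact hA
  have hqr : q ≠ r := fun h => hpp (by
    subst h
    exact (by_contra fun hh => hp (by simp [A, proj_apply, hh]) : p = q).trans
      (by_contra fun hh => hp' (by simp [A, proj_apply, hh]) : p' = q).symm)
  have hrow : A r q = 0 := by simp [A, proj_apply, Matrix.one_apply_ne hqr.symm]
  let u : ι → F := fun i => A i q
  let φ : ι → F := fun j => B q j
  have hu : A *ᵥ Pi.single q 1 = u := by funext i; simp [u]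
  have hφ : Pi.single q 1 ᵥ* B = φ := by funext j; simp [φ]
  have hHom : Hom (DecompMax.axisImage S r) r u φ := by
    refine ⟨?_, hrow, by simp [φ, B, proj_apply, Matrix.one_apply_ne hqr], fun l hl => ?_⟩
    · have := congrFun (congrFun hBA q) q
      rw [Matrix.one_apply_eq, mul_apply] at this
      exact this
    · have e : mon (1 : Equiv.Perm ι) (Function.update 1 q l) = tv ((l - 1) • Pi.single q 1) (Pi.single q 1) := by
        ext i j
        simp only [mon_apply, tv_apply, Equiv.Perm.one_apply, Pi.smul_apply, Pi.single_apply]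
        by_cases hj : j = q <;> by_cases hi : i = j <;> simp [hi, hj, Matrix.one_apply]
        all_goals simp_all
      have hmem := hG.closed.conj hAG hAB (hG.mon_mem 1 (Function.update 1 q l) rfl (by simp [hqr.symm])
        (fun k => by by_cases hk : k = q <;> simp [hk, hl]))
      rwa [e, tv_conj hAB, mulVec_smul, hu, hφ] at hmem
  exact hasTv_of_win hS h5 hn (win_of_hom h5 hG (by omega) hHom hpp hp hp')

end CfsgLib.Classical.DecompMax
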